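import Groth.Agent.Lib.DerAdic9.Core
import Groth.Agent.Lib.DQC.Classes
import Groth.Agent.Lib.ModM1.Coh
import Groth.Agent.Lib.DPerf.Noeth
import Groth.Agent.Lib.DGen9.RelLocal

/-!
Derived completion on an affine Noetherian scheme.
-/

set_option autoImplicit false
set_option linter.unusedSectionVars false
set_option linter.style.haveILetI false
set_option backward.isDefEq.respectTransparency false
set_option backward.isDefEq.respectTransparency.types false

universe v u

open CategoryTheory CategoryTheory.Limits Opposite AlgebraicGeometry DerComp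

attribute [local instance] HasDerivedCategory.standard

namespace Groth.Agent.DerAdic9

section Transfer

variable {R : Type*} [CommRing R] (J : Ideal R) {M N M' N' : Type*} [AddCommGroup M] [Module R M] [AddCommGroup N]
  [Module R N] [AddCommGroup M'] [Module R M'] [AddCommGroup N'] [Module R N']

theorem smul_top_iff (e : M ≃ₗ[R] M') (m : ℕ) (x : M) :
    e x ∈ (J ^ m • ⊤ : Submodule R M') ↔ x ∈ (J ^ m • ⊤ : Submodule R M) := by
  rw [← e.range, ← Submodule.map_top, ← Submodule.map_smul'', Submodule.mem_map_equiv, e.symm_apply_apply]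

theorem adic_transfer (g : M ≃ₗ[R] M') (h : N ≃ₗ[R] N') (F : M →ₗ[R] N) (F' : M' →ₗ[R] N')
    (hF : ∀ x, F' (g x) = h (F x))
    (H : IsAdicComplete J N' ∧ ∀ m : ℕ, (∀ y, ∃ x, F' x - y ∈ (J ^ m • ⊤ : Submodule R N')) ∧
      ∀ x, F' x ∈ (J ^ m • ⊤ : Submodule R N') → x ∈ (J ^ m • ⊤ : Submodule R M')) :
    IsAdicComplete J N ∧ ∀ m : ℕ, (∀ y, ∃ x, F x - y ∈ (J ^ m • ⊤ : Submodule R N)) ∧
      ∀ x, F x ∈ (J ^ m • ⊤ : Submodule R N) → x ∈ (J ^ m • ⊤ : Submodule R M) := by
  haveI := H.1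
  refine ⟨isAdicComplete_of_linearEquiv J h.symm, fun m => ⟨fun y => ?_, fun x hx => ?_⟩⟩
  · obtain ⟨x', hx'⟩ := (H.2 m).1 (h y)
    obtain ⟨x, rfl⟩ := g.surjective x'
    exact ⟨x, by rwa [hF, ← map_sub, smul_top_iff] at hx'⟩
  · rw [← smul_top_iff J g]
    exact (H.2 m).2 _ (by rwa [hF, smul_top_iff])

end Transfer

section Theta

/-- The map to homology, linearly. -/
noncomputable def θLin {R : Type*} [CommRing R] {A : Type*} [Category A] [Abelian A] [Linear R A] (P : A) (n : ℤ)
    (E : DerivedCategory A) :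
    ((DerivedCategory.singleFunctor A n).obj P ⟶ E) →ₗ[R] (P ⟶ (DerivedCategory.homologyFunctor A n).obj E) where
  toFun f := SiteRlim.θ f
  map_add' f g := by simp [SiteRlim.θ, Preadditive.comp_add]
  map_smul' s f := by
    have h : s • f = (DerivedCategory.singleFunctor A n).map (s • 𝟙 P) ≫ f := by
      rw [Functor.map_smul, CategoryTheory.Functor.map_id, Linear.smul_comp, Category.id_comp]
    rw [h, SiteRlim.θ_pre, Linear.smul_comp, Category.id_comp, RingHom.id_apply]

theorem finite_hom_single_congr {R : Type*} [CommRing R] {A : Type*} [Category A] [Abelian A] [Linear R A]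
    (P : A) (n : ℤ) {E E' : DerivedCategory A} (e : E ≅ E')
    (hf : Module.Finite R ((DerivedCategory.singleFunctor A n).obj P ⟶ E)) :
    Module.Finite R (DerivedCategory.Q.obj ((HomologicalComplex.single A (ComplexShape.up ℤ) n).obj P) ⟶ E') :=
  haveI := hf
  Module.Finite.equiv (Linear.homCongr R ((DerivedCategory.singleFunctorIsoCompQ A n).app P) e)

theorem adic_of_core {R : Type*} [CommRing R] {A : Type*} [Category A] [Abelian A] [Linear R A] (J : Ideal R) (P : A)
    {I₁ I₂ : CochainComplex A ℤ} (φ : I₁ ⟶ I₂) {E E' : DerivedCategory A} (e₁ : DerivedCategory.Q.obj I₁ ≅ E)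
    (e₂ : DerivedCategory.Q.obj I₂ ≅ E') (h : E ⟶ E') (hφ : DerivedCategory.Q.map φ = e₁.hom ≫ h ≫ e₂.inv)
    (H : IsAdicComplete J (DerivedCategory.Q.obj ((HomologicalComplex.single A (ComplexShape.up ℤ) 0).obj P) ⟶
        DerivedCategory.Q.obj I₂) ∧ ∀ m : ℕ, (∀ y, ∃ x, Linear.rightComp R _ (DerivedCategory.Q.map φ) x - y ∈
          (J ^ m • ⊤ : Submodule R (DerivedCategory.Q.obj ((HomologicalComplex.single A (ComplexShape.up ℤ) 0).obj P) ⟶
            DerivedCategory.Q.obj I₂))) ∧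
        ∀ x, Linear.rightComp R _ (DerivedCategory.Q.map φ) x ∈
          (J ^ m • ⊤ : Submodule R (DerivedCategory.Q.obj ((HomologicalComplex.single A (ComplexShape.up ℤ) 0).obj P) ⟶
            DerivedCategory.Q.obj I₂)) →
          x ∈ (J ^ m • ⊤ : Submodule R (DerivedCategory.Q.obj ((HomologicalComplex.single A (ComplexShape.up ℤ) 0).obj P) ⟶
            DerivedCategory.Q.obj I₁))) :
    IsAdicComplete J ((DerivedCategory.singleFunctor A 0).obj P ⟶ E') ∧ ∀ m : ℕ,
      (∀ y, ∃ x, Linear.rightComp R _ h x - y ∈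
          (J ^ m • ⊤ : Submodule R ((DerivedCategory.singleFunctor A 0).obj P ⟶ E'))) ∧
        ∀ x, Linear.rightComp R _ h x ∈
          (J ^ m • ⊤ : Submodule R ((DerivedCategory.singleFunctor A 0).obj P ⟶ E')) →
          x ∈ (J ^ m • ⊤ : Submodule R ((DerivedCategory.singleFunctor A 0).obj P ⟶ E)) := by
  let u := (DerivedCategory.singleFunctorIsoCompQ A 0).app P
  refine adic_transfer J (Linear.homCongr R u e₁.symm) (Linear.homCongr R u e₂.symm) _ _ (fun x => ?_) H
  simp [Linear.homCongr_apply, hφ]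
  show (u.inv ≫ x ≫ e₁.inv) ≫ _ = _
  simp

end Theta

section Terminal

variable {C : Type u} [SmallCategory C] {J : GrothendieckTopology C} (O : Sheaf J CommRingCat.{u}) {T : C}

/-- Restriction to a final object is fully faithful. -/
theorem isIso_counit_of_isTerminal (hT : IsTerminal T) : IsIso (ModSite.extZeroAdj O T).counit := by
  haveI hf : (ModSite.restr O T).Faithful := ⟨fun {M N} f g h => SheafOfModules.hom_ext
    (PresheafOfModules.hom_ext fun W => ModuleCat.hom_ext (LinearMap.ext fun x =>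
      congrArg (fun t : (ModSite.restr O T).obj M ⟶ (ModSite.restr O T).obj N =>
        t.val.app (op (Over.mk (hT.from W.unop))) x) h))⟩
  haveI : (ModSite.restr O T).Full := ⟨fun {M N} g =>
    ⟨⟨{ app := fun W => ModuleCat.ofHom
          { toFun := fun x => g.val.app (op (Over.mk (hT.from W.unop))) x
            map_add' := fun x y => map_add (g.val.app (op (Over.mk (hT.from W.unop)))).hom x y
            map_smul' := fun r x => (g.val.app (op (Over.mk (hT.from W.unop)))).hom.map_smul r x }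
        naturality := fun {W Z} k => ModuleCat.hom_ext (LinearMap.ext fun x =>
          PresheafOfModules.naturality_apply g.val
            (Over.homMk k.unop (hT.hom_ext _ _) : Over.mk (hT.from Z.unop) ⟶ Over.mk (hT.from W.unop)).op x) }⟩,
      SheafOfModules.hom_ext (PresheafOfModules.hom_ext fun A => ModuleCat.hom_ext (LinearMap.ext fun x => by
        have key : ∀ (Z : C) (f₁ f₂ : Z ⟶ T) (x : ModSite.sect M Z),
            (show ModSite.sect N Z from g.val.app (op (Over.mk f₁)) x) = g.val.app (op (Over.mk f₂)) x :=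
          fun Z f₁ f₂ x => by obtain rfl := hT.hom_ext f₁ f₂; rfl
        exact key _ _ _ x))⟩⟩
  infer_instance

end Terminal

section Scheme

open DerNull9 DerVanish9

variable {X : Scheme.{u}}

theorem gsec_eq_restrict (s : GSec X.sheaf) (U : X.Opens) :
    s.1 U = (X.sheaf.obj.map (homOfLE (le_top : U ≤ ⊤)).op).hom (s.1 ⊤) := (GSec.compat s _).symm

variable (X) in
/-- Global sections of the structure sheaf. -/
noncomputable def gsecEquiv : GSec X.sheaf ≃+* X.sheaf.obj.obj (op (⊤ : X.Opens)) :=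
  RingEquiv.ofBijective ((Pi.evalRingHom (fun U : X.Opens => X.sheaf.obj.obj (op U)) ⊤).comp (GSec X.sheaf).subtype)
    ⟨fun s t h => Subtype.ext (funext fun U => by
      rw [gsec_eq_restrict s U, gsec_eq_restrict t U]; exact congrArg _ h),
    fun f => ⟨⟨fun U => (X.sheaf.obj.map (homOfLE (le_top : U ≤ ⊤)).op).hom f, fun U V g => by
      rw [DerVanish9.map_map]; rfl⟩, DerVanish9.map_id f⟩⟩

theorem isNoetherianRing_gsec [IsAffine X] [IsNoetherian X] : IsNoetherianRing (GSec X.sheaf) :=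
  haveI : IsNoetherianRing (X.sheaf.obj.obj (op (⊤ : X.Opens))) :=
    IsLocallyNoetherian.component_noetherian ⟨⊤, isAffineOpen_top X⟩
  isNoetherianRing_of_ringEquiv _ (gsecEquiv X).symm

theorem ofSect_top (s : GSec X.sheaf) : GSec.ofSect X.sheaf (⊤ : X.Opens) (s.1 ⊤) = GSec.toOver s ⊤ :=
  Subtype.ext (funext fun V => GSec.compat s V.hom)

theorem restr_map_smul (s : GSec X.sheaf) (M : ModSite.Mod X.sheaf) :
    (ModSite.restr X.sheaf (⊤ : X.Opens)).map (s • 𝟙 M) =
      GSec.ofSect X.sheaf (⊤ : X.Opens) (s.1 ⊤) • 𝟙 ((ModSite.restr X.sheaf (⊤ : X.Opens)).obj M) := by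
  rw [ofSect_top, smul_def, smul_def, Category.comp_id, Category.comp_id]
  rfl

/-- The structure sheaf as a generator. -/
noncomputable def unitGenIso : ModSite.unit X.sheaf ≅ (DQC.gen X).obj ⊤ :=
  haveI := isIso_counit_of_isTerminal X.sheaf (isTerminalTop : IsTerminal (⊤ : X.Opens))
  (asIso ((ModSite.extZeroAdj X.sheaf (⊤ : X.Opens)).counit.app (ModSite.unit X.sheaf))).symm

theorem finite_hom_unit [IsAffine X] [IsNoetherian X] {M : X.Modules} (hM : Coh.IsCoh M) :
    Module.Finite (GSec X.sheaf) (ModSite.unit X.sheaf ⟶ (M : ModSite.Mod X.sheaf)) := by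
  haveI := M1.finite_sections hM.1 hM.2 (isAffineOpen_top X)
  let c := unitGenIso (X := X)
  let v : (ModSite.unit X.sheaf ⟶ (M : ModSite.Mod X.sheaf)) ≃ Γ(M, ⊤) :=
    (Iso.homCongr c (Iso.refl _)).trans (DQC.genHom ⊤ M)
  have hadd : ∀ a b, v.symm (a + b) = v.symm a + v.symm b := fun a b => by
    refine v.injective ?_
    rw [Equiv.apply_symm_apply]
    have key : ∀ h k : (DQC.gen X).obj ⊤ ⟶ M, DQC.genHom ⊤ M (h + k) = DQC.genHom ⊤ M h + DQC.genHom ⊤ M k :=
      fun h k => by
        rw [← Category.id_comp h, ← Category.id_comp k, ← Preadditive.comp_add, DQC.genHom_comp, DQC.genHom_comp,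
          DQC.genHom_comp]
        rfl
    show _ = DQC.genHom ⊤ M (Iso.homCongr c (Iso.refl _) (v.symm a + v.symm b))
    rw [Iso.homCongr_apply, Preadditive.add_comp, Preadditive.comp_add, key, ← Iso.homCongr_apply,
      ← Iso.homCongr_apply]
    show _ = v (v.symm a) + v (v.symm b)
    rw [Equiv.apply_symm_apply, Equiv.apply_symm_apply]
  have hsmul : ∀ (s : GSec X.sheaf) (h : ModSite.unit X.sheaf ⟶ (M : ModSite.Mod X.sheaf)),
      v (s • h) = (show Γ(X, ⊤) from s.1 ⊤) • v h := fun s h => by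
    show DQC.genHom ⊤ M (Iso.homCongr c (Iso.refl _) (s • h)) = _
    rw [smul_def, smulEnd_comm, Iso.homCongr_apply, Iso.refl_hom, Category.comp_id, ← Category.assoc,
      DQC.genHom_comp]
    have e : v h = DQC.genHom ⊤ M (c.inv ≫ h) := by
      show DQC.genHom ⊤ M (Iso.homCongr c (Iso.refl _) h) = _
      rw [Iso.homCongr_apply, Iso.refl_hom, Category.comp_id]
    rw [e]
    rfl
  obtain ⟨n, g, hg⟩ := Module.Finite.exists_fin (R := Γ(X, ⊤)) (M := Γ(M, ⊤))
  refine ⟨Submodule.fg_def.2 ⟨Set.range fun i => v.symm (g i), Set.finite_range _, ?_⟩⟩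
  rw [eq_top_iff]
  rintro h -
  rw [← v.symm_apply_apply h]
  have hh : v h ∈ Submodule.span Γ(X, ⊤) (Set.range g) := hg ▸ trivial
  generalize v h = y at hh ⊢
  induction hh using Submodule.span_induction with
  | mem x hx =>
    obtain ⟨i, rfl⟩ := hx
    exact Submodule.subset_span ⟨i, rfl⟩
  | zero =>
    rw [show v.symm 0 = 0 from by simpa using hadd 0 0]
    exact zero_mem _
  | add x y _ _ hx hy => rw [hadd]; exact add_mem hx hy
  | smul r x _ hx =>
    obtain ⟨s, rfl⟩ := (gsecEquiv X).surjective r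
    rw [show v.symm ((show Γ(X, ⊤) from gsecEquiv X s) • x) = s • v.symm x from
      v.injective ((v.apply_symm_apply _).trans (by rw [hsmul, v.apply_symm_apply]; rfl))]
    exact Submodule.smul_mem _ s hx

theorem finite_hom_single [IsAffine X] [IsNoetherian X] {E : DerivedCategory (ModSite.Mod X.sheaf)} (n : ℤ)
    (hq : DCoh.IsQCohD (X := X) E) (hc : Coh.IsCoh (DCoh.HD (X := X) E n)) :
    Module.Finite (GSec X.sheaf)
      ((DerivedCategory.singleFunctor (ModSite.Mod X.sheaf) n).obj (ModSite.unit X.sheaf) ⟶ E) := by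
  let HH := DerivedCategory.homologyFunctor (ModSite.Mod X.sheaf) n
  haveI : Module.Finite (GSec X.sheaf) (ModSite.unit X.sheaf ⟶ HH.obj E) := finite_hom_unit hc
  let Θ := θLin (R := GSec X.sheaf) (ModSite.unit X.sheaf) n E
  have hb : Function.Bijective Θ := by
    let c := unitGenIso (X := X)
    have h := DQC.bijective_θ (X := X) E hq (isAffineOpen_top X) n
    have h' := ((Iso.homCongr c.symm (Iso.refl (HH.obj E))).bijective.comp h).comp
      (Iso.homCongr ((DerivedCategory.singleFunctor (ModSite.Mod X.sheaf) n).mapIso c) (Iso.refl E)).bijective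
    convert h' using 1
    funext f
    show SiteRlim.θ f = _
    simp only [Function.comp_apply, Iso.homCongr_apply, Iso.refl_hom, Category.comp_id, Iso.symm_inv,
      Functor.mapIso_inv]
    erw [SiteRlim.θ_pre]
    exact (c.hom_inv_id_assoc _).symm
  exact Module.Finite.equiv (LinearEquiv.ofBijective Θ hb).symm

/-- Multiplication by a scalar on a complex with invertible action is orthogonal to complete objects. -/
theorem perp_of_smul_iso {E : DerivedCategory (ModSite.Mod X.sheaf)}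
    (I₂ : CochainComplex (ModSite.Mod X.sheaf) ℤ) [I₂.IsKInjective] (e : DerivedCategory.Q.obj I₂ ≅ E)
    (s : GSec X.sheaf) (h : GoodAll E (⊤ : X.Opens) (s.1 ⊤)) (Y : CochainComplex (ModSite.Mod X.sheaf) ℤ) :
    Perp (DerivedCategory.Q.obj I₂) (DerivedCategory.Q.obj (TelC s Y)) := by
  haveI : IsGrothendieckAbelian.{u} (ModSite.Mod X.sheaf) :=
    CohFound.isGrothendieckAbelian_sheafOfModules (ModSite.ringSh X.sheaf)
  haveI : IsGrothendieckAbelian.{u} (ModSite.Mod (X.sheaf.over (⊤ : X.Opens))) :=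
    CohFound.isGrothendieckAbelian_sheafOfModules (ModSite.ringSh (X.sheaf.over (⊤ : X.Opens)))
  haveI := isIso_smul_telC s Y
  have hinv : ∀ i, Inv (GSec.ofSect X.sheaf (⊤ : X.Opens) (s.1 ⊤))
      (((Rx X.sheaf (⊤ : X.Opens)).obj (TelC s Y)).X i) := fun i => by
    have hi : IsIso ((HomologicalComplex.eval (ModSite.Mod X.sheaf) (ComplexShape.up ℤ) i).map
      (s • 𝟙 (TelC s Y))) := inferInstance
    change IsIso (s • 𝟙 ((TelC s Y).X i)) at hi
    have h2 : IsIso ((ModSite.restr X.sheaf (⊤ : X.Opens)).map (s • 𝟙 ((TelC s Y).X i))) := inferInstance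
    rw [restr_map_smul, smul_def, Category.comp_id] at h2
    exact h2
  have hp : Perp E (DerivedCategory.Q.obj ((Lx X.sheaf (⊤ : X.Opens)).obj ((Rx X.sheaf (⊤ : X.Opens)).obj (TelC s Y)))) :=
    perp_complex (s := GSec.ofSect X.sheaf (⊤ : X.Opens) (s.1 ⊤)) h.perp_ext _ hinv
  haveI := isIso_counit_of_isTerminal X.sheaf (isTerminalTop : IsTerminal (⊤ : X.Opens))
  let i : (Lx X.sheaf (⊤ : X.Opens)).obj ((Rx X.sheaf (⊤ : X.Opens)).obj (TelC s Y)) ≅ TelC s Y :=
    HomologicalComplex.Hom.isoOfComponents (fun n => asIso ((ModSite.extZeroAdj X.sheaf (⊤ : X.Opens)).counit.app _))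
      (fun a b _ => ((ModSite.extZeroAdj X.sheaf (⊤ : X.Opens)).counit.naturality _).symm)
  have hq := hp.iso (DerivedCategory.Q.mapIso i)
  exact fun n => (Iso.homCongr (Iso.refl _) ((shiftFunctor _ n).mapIso e)).subsingleton_congr.2 (hq n)

theorem isZero_kos_of_restr (as : List (GSec X.sheaf)) (C : CochainComplex (ModSite.Mod X.sheaf) ℤ)
    (h : Null X.sheaf (fun i => (as.get i).1 (⊤ : X.Opens)) C) : IsZero (DerivedCategory.Q.obj (kos as C)) := by
  haveI : IsGrothendieckAbelian.{u} (ModSite.Mod X.sheaf) :=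
    CohFound.isGrothendieckAbelian_sheafOfModules (ModSite.ringSh X.sheaf)
  haveI : IsGrothendieckAbelian.{u} (ModSite.Mod (X.sheaf.over (⊤ : X.Opens))) :=
    CohFound.isGrothendieckAbelian_sheafOfModules (ModSite.ringSh (X.sheaf.over (⊤ : X.Opens)))
  haveI := preservesFiniteLimits_restr X.sheaf (⊤ : X.Opens)
  haveI := preservesFiniteColimits_restr X.sheaf (⊤ : X.Opens)
  obtain ⟨e⟩ := nonempty_map_kos₂ (ModSite.restr X.sheaf (⊤ : X.Opens)) as.get
    (fun i => GSec.ofSect X.sheaf (⊤ : X.Opens) ((as.get i).1 ⊤)) (fun i M => restr_map_smul (as.get i) M)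
    (List.finRange as.length) C
  rw [← List.ofFn_eq_map, ← List.ofFn_eq_map, List.ofFn_get] at e
  have hz : IsZero (DerivedCategory.Q.obj ((Rx X.sheaf (⊤ : X.Opens)).obj (kos as C))) :=
    IsZero.of_iso h (DerivedCategory.Q.mapIso e)
  haveI := isIso_counit_of_isTerminal X.sheaf (isTerminalTop : IsTerminal (⊤ : X.Opens))
  refine isZero_Q_of_isZero_homology _ fun n => ?_
  have h1 : IsZero (((Rx X.sheaf (⊤ : X.Opens)).obj (kos as C)).homology n) :=
    ((DerivedCategory.homologyFunctor _ n).map_isZero hz).of_iso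
      ((DerivedCategory.homologyFunctorFactors _ n).app _).symm
  have h2 : IsZero ((ModSite.restr X.sheaf (⊤ : X.Opens)).obj ((kos as C).homology n)) :=
    h1.of_iso (((kos as C).sc n).mapHomologyIso (ModSite.restr X.sheaf (⊤ : X.Opens))).symm
  exact ((ModSite.extZero X.sheaf (⊤ : X.Opens)).map_isZero h2).of_iso
    (asIso ((ModSite.extZeroAdj X.sheaf (⊤ : X.Opens)).counit.app _)).symm

theorem completion_adic [IsAffine X] [IsNoetherian X] (I : Ideal (GSec X.sheaf)) (𝓘 : IdealSh X.sheaf)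
    (h𝓘 : 𝓘.IsGenBy (fun a : I => (a : GSec X.sheaf))) [HasDerCompletion X.sheaf 𝓘]
    (K : DerivedCategory (ModSite.Mod X.sheaf)) (hK : ∀ m : ℤ, DCoh.IsPseudoCoherentD (X := X) m K) (p : ℤ) :
    IsAdicComplete I (SiteCmp.inD X.sheaf (ModSite.unit X.sheaf) ⟶ ((derCompletion X.sheaf 𝓘).obj K).obj⟦p⟧) ∧
      ∀ n : ℕ, (∀ y : (SiteCmp.inD X.sheaf (ModSite.unit X.sheaf) ⟶ ((derCompletion X.sheaf 𝓘).obj K).obj⟦p⟧),
        ∃ x : (SiteCmp.inD X.sheaf (ModSite.unit X.sheaf) ⟶ K⟦p⟧),
          Linear.rightComp (GSec X.sheaf) (SiteCmp.inD X.sheaf (ModSite.unit X.sheaf))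
            ((shiftFunctor (DerivedCategory (ModSite.Mod X.sheaf)) p).map (toDerCompletion 𝓘 K)) x - y ∈
              (I ^ n • ⊤ : Submodule (GSec X.sheaf) _)) ∧
        ∀ x : (SiteCmp.inD X.sheaf (ModSite.unit X.sheaf) ⟶ K⟦p⟧),
          Linear.rightComp (GSec X.sheaf) (SiteCmp.inD X.sheaf (ModSite.unit X.sheaf))
            ((shiftFunctor (DerivedCategory (ModSite.Mod X.sheaf)) p).map (toDerCompletion 𝓘 K)) x ∈
              (I ^ n • ⊤ : Submodule (GSec X.sheaf) _) → x ∈ (I ^ n • ⊤ : Submodule (GSec X.sheaf) _) := by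
  haveI := isNoetherianRing_gsec (X := X)
  haveI : IsGrothendieckAbelian.{u} (ModSite.Mod X.sheaf) :=
    CohFound.isGrothendieckAbelian_sheafOfModules (ModSite.ringSh X.sheaf)
  let η := toDerCompletion 𝓘 K
  let L := ((derCompletion X.sheaf 𝓘).obj K).obj
  obtain ⟨S, hS⟩ := IsNoetherian.noetherian I
  let as := S.toList
  have hJ : Ideal.span {s | s ∈ as} = I := by
    rw [← hS, show {s | s ∈ as} = (S : Set (GSec X.sheaf)) by ext; simp [as]]
  have hmem : ∀ s ∈ as, s.1 (⊤ : X.Opens) ∈ 𝓘.ideal ⊤ := fun s hs =>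
    h𝓘.1 ⟨s, hJ ▸ Ideal.subset_span hs⟩ ⊤
  obtain ⟨I₁, hI₁, ⟨e₁⟩⟩ := exists_kInj (K⟦p⟧)
  obtain ⟨I₂, hI₂, ⟨e₂⟩⟩ := exists_kInj (L⟦p⟧)
  obtain ⟨φ, hφ⟩ := KInjLib.exists_map_eq (e₁.hom ≫ η⟦p⟧' ≫ e₂.inv)
  haveI := RHomAway9.isKInjective_mappingCone φ
  have hL : IsDerComp X.sheaf 𝓘 (L⟦p⟧) := isDerComp_shift ((derCompletion X.sheaf 𝓘).obj K).property p
  have hperp : ∀ s ∈ as, ∀ Y : CochainComplex (ModSite.Mod X.sheaf) ℤ,
      Perp (DerivedCategory.Q.obj I₂) (DerivedCategory.Q.obj (TelC s Y)) := fun s hs Y =>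
    perp_of_smul_iso I₂ e₂ s ((isDerComp_iff_le _ 𝓘).1 hL ⊤ (hmem s hs)) Y
  have hη : ∀ Y, IsDerComp X.sheaf 𝓘 Y → Function.Bijective fun g : L⟦p⟧ ⟶ Y => η⟦p⟧' ≫ g := fun Y hY => by
    have h0 : ∀ W, IsDerComp X.sheaf 𝓘 W → Function.Bijective fun g : L ⟶ W => η ≫ g := fun W hW => by
      have h := ((derCompletionAdj X.sheaf 𝓘).homEquiv K ⟨W, hW⟩).bijective.comp
        (ObjectProperty.fullyFaithfulι _).homEquiv.symm.bijective
      convert h using 1
      funext t
      show _ = (derCompletionAdj X.sheaf 𝓘).homEquiv K ⟨W, hW⟩ ((ObjectProperty.fullyFaithfulι _).homEquiv.symm t)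
      rw [Adjunction.homEquiv_unit]
      rfl
    let adj : shiftFunctor (DerivedCategory (ModSite.Mod X.sheaf)) p ⊣
        shiftFunctor (DerivedCategory (ModSite.Mod X.sheaf)) (-p) :=
      (shiftEquiv' (DerivedCategory (ModSite.Mod X.sheaf)) p (-p) (add_neg_cancel p)).toAdjunction
    have h := ((adj.homEquiv K Y).symm.bijective.comp (h0 _ (isDerComp_shift hY (-p)))).comp (adj.homEquiv L Y).bijective
    convert h using 1
    funext g
    simp only [Function.comp_apply]
    rw [adj.homEquiv_naturality_left_symm, Equiv.symm_apply_apply]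
  have hX : ∀ Y, IsDerComp X.sheaf 𝓘 Y → Perp Y (DerivedCategory.Q.obj (CochainComplex.mappingCone φ)) := fun Y hY =>
    (bijective_precomp_iff φ Y).1 fun n => by
      have hb := ((Iso.homCongr e₁.symm (Iso.refl (Y⟦n⟧))).bijective.comp
        (hη _ (isDerComp_shift hY n))).comp (Iso.homCongr e₂ (Iso.refl (Y⟦n⟧))).bijective
      convert hb using 1
      funext g
      simp [hφ]
  haveI : IsGrothendieckAbelian.{u} (ModSite.Mod (X.sheaf.over (⊤ : X.Opens))) :=
    CohFound.isGrothendieckAbelian_sheafOfModules (ModSite.ringSh (X.sheaf.over (⊤ : X.Opens)))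
  have hnull : IsZero (DerivedCategory.Q.obj (kos as (CochainComplex.mappingCone φ))) := by
    refine isZero_kos_of_restr as _ (null_of_leftOrth 𝓘
      (fun W g => ∃ i : Fin as.length, g = (as.get i).1 W) (fun K' hK' => ?_) ?_ _ hX)
    · refine (isDerComp_iff_le K' 𝓘).2 (h𝓘.2 _ fun a U => ?_)
      have ha : (a : GSec X.sheaf) ∈ Ideal.span {s | s ∈ as} := hJ.symm ▸ a.2
      show (a : GSec X.sheaf).1 U ∈ _
      generalize (a : GSec X.sheaf) = b at ha ⊢
      induction ha using Submodule.span_induction with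
      | mem s hs =>
        obtain ⟨i, rfl⟩ := List.mem_iff_get.1 hs
        exact fun V g => hK' V _ ⟨i, GSec.compat _ g⟩
      | zero => exact (vanishingIdeal K').ideal U |>.zero_mem
      | add x y _ _ hx hy => exact (vanishingIdeal K').ideal U |>.add_mem hx hy
      | smul r x _ hx => exact (vanishingIdeal K').ideal U |>.mul_mem_left (r.1 U) hx
    · rintro W g ⟨i, rfl⟩ B q y
      have h := locSpan_gen (O := X.sheaf) (a := fun i => (as.get i).1 (⊤ : X.Opens)) y i
      rw [GSec.compat] at h ⊢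
      exact h
  have hfin : ∀ n : ℤ, Module.Finite (GSec X.sheaf) (DerivedCategory.Q.obj
      ((HomologicalComplex.single (ModSite.Mod X.sheaf) (ComplexShape.up ℤ) n).obj (ModSite.unit X.sheaf)) ⟶
        DerivedCategory.Q.obj I₁) := fun n => by
    let w : DCoh.HD (X := X) (K⟦p⟧) n ≅ DCoh.HD (X := X) K (p + n) :=
      ((DerivedCategory.homologyFunctor (ModSite.Mod X.sheaf) 0).shiftIso p n (p + n) rfl).app K
    have hq : DCoh.IsQCohD (X := X) K := RelT.isQCohD_of_pc hK
    have hqp : DCoh.IsQCohD (X := X) (K⟦p⟧) := fun k => M1.isQCoh_of_isIso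
      (((DerivedCategory.homologyFunctor (ModSite.Mod X.sheaf) 0).shiftIso p k (p + k) rfl).app K).symm (hq _)
    have hcK := DPerf.isCoh_HD_of_pseudoCoherent (hK (p + n)) (hq _) le_rfl
    exact finite_hom_single_congr _ n e₁.symm
      (finite_hom_single n hqp ⟨M1.isQCoh_of_isIso w.symm hcK.1, M1.isFT_of_isIso w.symm hcK.2⟩)
  exact adic_of_core I (ModSite.unit X.sheaf) φ e₁ e₂ _ hφ
    (adic_core (ModSite.unit X.sheaf) as I hJ φ hnull hperp hfin 0)

end Scheme

end Groth.Agent.DerAdic9
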