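import Groth.Agent.Lib.DerAdic9.HomEquiv
import Groth.Agent.Lib.DCpl.FiniteCpl
import Groth.Agent.Lib.DCpl.CplTriangle
import Groth.Agent.Lib.DerNull9.Push

/-!
Maps into a derived completion out of an object with finite Hom modules.
-/

set_option autoImplicit false
set_option linter.unusedSectionVars false
set_option linter.style.haveILetI false
set_option backward.isDefEq.respectTransparency false
set_option backward.isDefEq.respectTransparency.types false

universe u

open CategoryTheory CategoryTheory.Limits Opposite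

attribute [local instance] HasDerivedCategory.standard

namespace Groth.Agent.DerAdic9

local notation "Cx" => ComplexShape.up ℤ

variable {A : Type (u + 1)} [Category.{u} A] [Abelian A] [IsGrothendieckAbelian.{u} A] {R : Type u} [CommRing R]
  [IsNoetherianRing R] [Linear R A]

theorem homEquiv_HD_comm (P : A) {I₁ I₂ : CochainComplex A ℤ} [I₁.IsKInjective] [I₂.IsKInjective] (φ : I₁ ⟶ I₂)
    (n : ℤ) (x : Dual.HD R (DRing.toD (((HomF (R := R) P).mapHomologicalComplex Cx).obj I₁)) n) :
    homEquiv P I₂ n (((DerivedCategory.homologyFunctorFactors (ModuleCat.{u} R) n).hom.app _).hom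
        ((DMod.HH n).map (DerivedCategory.Q.map (((HomF (R := R) P).mapHomologicalComplex Cx).map φ)) x)) =
      homEquiv P I₁ n (((DerivedCategory.homologyFunctorFactors (ModuleCat.{u} R) n).hom.app _).hom x) ≫
        DerivedCategory.Q.map φ := by
  rw [← homEquiv_naturality]
  congr 1
  exact ConcreteCategory.congr_hom ((DerivedCategory.homologyFunctorFactors (ModuleCat.{u} R) n).hom.naturality
    (((HomF (R := R) P).mapHomologicalComplex Cx).map φ)) x

/-- Completion on Hom modules. -/
theorem adic_core (P : A) (as : List R) (J : Ideal R) (hJ : Ideal.span {s : R | s ∈ as} = J)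
    {I₁ I₂ : CochainComplex A ℤ} [I₁.IsKInjective] [I₂.IsKInjective] (φ : I₁ ⟶ I₂)
    (hnull : IsZero (DerivedCategory.Q.obj (DerNull9.kos as (CochainComplex.mappingCone φ))))
    (hperp : ∀ s ∈ as, ∀ X : CochainComplex A ℤ,
      DerVanish9.Perp (DerivedCategory.Q.obj I₂) (DerivedCategory.Q.obj (DerNull9.TelC s X)))
    (hfin : ∀ n : ℤ, Module.Finite R
      (DerivedCategory.Q.obj ((HomologicalComplex.single A Cx n).obj P) ⟶ DerivedCategory.Q.obj I₁)) (n : ℤ) :
    IsAdicComplete J (DerivedCategory.Q.obj ((HomologicalComplex.single A Cx n).obj P) ⟶ DerivedCategory.Q.obj I₂) ∧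
      ∀ m : ℕ, (∀ y, ∃ x, Linear.rightComp R (DerivedCategory.Q.obj ((HomologicalComplex.single A Cx n).obj P))
          (DerivedCategory.Q.map φ) x - y ∈
            (J ^ m • ⊤ : Submodule R (DerivedCategory.Q.obj ((HomologicalComplex.single A Cx n).obj P) ⟶ DerivedCategory.Q.obj I₂))) ∧
        ∀ x, Linear.rightComp R (DerivedCategory.Q.obj ((HomologicalComplex.single A Cx n).obj P))
          (DerivedCategory.Q.map φ) x ∈
            (J ^ m • ⊤ : Submodule R (DerivedCategory.Q.obj ((HomologicalComplex.single A Cx n).obj P) ⟶ DerivedCategory.Q.obj I₂)) →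
          x ∈ (J ^ m • ⊤ : Submodule R (DerivedCategory.Q.obj ((HomologicalComplex.single A Cx n).obj P) ⟶ DerivedCategory.Q.obj I₁)) := by
  let G := ((HomF (R := R) P).mapHomologicalComplex Cx)
  let U : ∀ (I : CochainComplex A ℤ) [I.IsKInjective] (k : ℤ), Dual.HD R (DRing.toD (G.obj I)) k ≃ₗ[R]
      (DerivedCategory.Q.obj ((HomologicalComplex.single A Cx k).obj P) ⟶ DerivedCategory.Q.obj I) := fun I _ k =>
    ((DerivedCategory.homologyFunctorFactors (ModuleCat.{u} R) k).app (G.obj I)).toLinearEquiv ≪≫ₗ homEquiv P I k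
  have hC : DRing.IsDerivedComplete J (DRing.toD (G.obj I₂)) :=
    (DCpl.isDerivedComplete_iff_span J _ hJ _).2 fun s hs k =>
      (dc_of_perp s _ _ (hperp s hs _)).of_linearEquiv (U I₂ k).symm
  let u := DerivedCategory.Q.map (G.map φ)
  have huniv : ∀ E, DRing.IsDerivedComplete J E → Function.Bijective fun t : DRing.toD (G.obj I₂) ⟶ E => u ≫ t := by
    intro E hE
    haveI := RHomAway9.isKInjective_mappingCone φ
    haveI := DerNull9.isKInjective_kos as (CochainComplex.mappingCone φ)
    obtain ⟨e⟩ := DerNull9.nonempty_map_kos₂ (HomF (R := R) P) as.get as.get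
      (fun i M => HomF_map_smul P (as.get i) M) (List.finRange as.length) (CochainComplex.mappingCone φ)
    rw [show (List.finRange as.length).map as.get = as by simp] at e
    obtain ⟨e'⟩ := DerNull9.nonempty_kosIso as (CochainComplex.mappingCone.mapHomologicalComplexIso φ (HomF (R := R) P))
    have hz : IsZero (DerivedCategory.Q.obj (DerNull9.kos as (CochainComplex.mappingCone (G.map φ)))) :=
      (DerNull9.isZero_Q_of_isZero_homology _
        (DerNull9.isZero_Q_map_of_isKInjective (HomF (R := R) P) _ hnull)).of_iso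
          (DerivedCategory.Q.mapIso (e ≪≫ e')).symm
    have hp : DerVanish9.Perp E (DerivedCategory.Q.obj (CochainComplex.mappingCone (G.map φ))) := by
      refine DerNull9.perp_of_isZero_kos as (fun s hs X k => ?_) _ hz
      refine DCpl.subsingleton_hom_of_finv s _ (DCpl.finv_homology _ s fun i => ?_) _
        (((DCpl.isDerivedComplete_iff_span J _ hJ E).1 hE s hs).shift k)
      haveI := DerNull9.isIso_smul_telC s X
      have hi : IsIso (((HomologicalComplex.eval (ModuleCat.{u} R) Cx i)).map (s • 𝟙 (DerNull9.TelC s X))) :=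
        inferInstance
      exact (ConcreteCategory.isIso_iff_bijective _).1 hi
    have hb := (DerNull9.bijective_precomp_iff (G.map φ) E).2 hp 0
    let z := (shiftFunctorZero (Dual.D R) ℤ).app E
    have hb' := ((Iso.homCongr (Iso.refl _) z).bijective.comp hb).comp (Iso.homCongr (Iso.refl _) z.symm).bijective
    convert hb' using 1
    funext t
    simp [u, z]
  haveI := DCpl.hasDerivedCompletion J (IsNoetherian.noetherian J)
  haveI : Module.Finite R (Dual.HD R (DRing.toD (G.obj I₁)) n) := haveI := hfin n; Module.Finite.equiv (U I₁ n).symm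
  obtain ⟨e₀, he₀⟩ := DCpl.exists_completion_equiv J (DRing.toD (G.obj I₁))
    (fun k => haveI := hfin k; Module.Finite.equiv (U I₁ k).symm) n
  let Ĉ := (DRing.derivedCompletion J).obj (DRing.toD (G.obj I₁))
  let η := DRing.toDerivedCompletion J (DRing.toD (G.obj I₁))
  have hη : ∀ E, DRing.IsDerivedComplete J E → Function.Bijective fun t : Ĉ.obj ⟶ E => η ≫ t := fun E hE => by
    have h := ((DRing.derivedCompletionAdj J).homEquiv (DRing.toD (G.obj I₁)) ⟨E, hE⟩).bijective.comp
      (ObjectProperty.fullyFaithfulι _).homEquiv.symm.bijective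
    convert h using 1
    funext t
    show _ = (DRing.derivedCompletionAdj J).homEquiv (DRing.toD (G.obj I₁)) ⟨E, hE⟩
      ((ObjectProperty.fullyFaithfulι _).homEquiv.symm t)
    rw [Adjunction.homEquiv_unit]
    rfl
  obtain ⟨v, hv⟩ := (huniv _ Ĉ.property).2 η
  obtain ⟨w, hw⟩ := (hη _ hC).2 u
  haveI : IsIso v := ⟨w, (huniv _ hC).1 (by
      show u ≫ v ≫ w = u ≫ 𝟙 _
      rw [← Category.assoc, show u ≫ v = η from hv, show η ≫ w = u from hw, Category.comp_id]),
    (hη _ Ĉ.property).1 (by
      show η ≫ w ≫ v = η ≫ 𝟙 _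
      rw [← Category.assoc, show η ≫ w = u from hw, show u ≫ v = η from hv, Category.comp_id])⟩
  refine adic_of_equiv J (IsNoetherian.noetherian J)
    ((U I₂ n).symm ≪≫ₗ ((DMod.HH n).mapIso (asIso v)).toLinearEquiv ≪≫ₗ e₀) (U I₁ n).symm _ fun x => ?_
  obtain ⟨x, rfl⟩ := (U I₁ n).surjective x
  have h : (U I₂ n) ((DMod.HH n).map u x) = U I₁ n x ≫ DerivedCategory.Q.map φ := homEquiv_HD_comm P φ n x
  rw [LinearEquiv.trans_apply, LinearEquiv.trans_apply, show Linear.rightComp R _ (DerivedCategory.Q.map φ) (U I₁ n x) =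
    U I₂ n ((DMod.HH n).map u x) from h.symm, LinearEquiv.symm_apply_apply, LinearEquiv.symm_apply_apply]
  refine Eq.trans (congrArg e₀ ?_) (he₀ x)
  show (DMod.HH n).map v ((DMod.HH n).map u x) = _
  rw [← ConcreteCategory.comp_apply, ← Functor.map_comp, show u ≫ v = η from hv]

end Groth.Agent.DerAdic9
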