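import Groth.Agent.Lib.DerAdic9.HomEquiv

/-!
Derived completeness of Hom modules along triangles.
-/

set_option autoImplicit false
set_option linter.unusedSectionVars false
set_option linter.style.haveILetI false
set_option backward.isDefEq.respectTransparency false
set_option backward.isDefEq.respectTransparency.types false

universe v u w

open CategoryTheory CategoryTheory.Limits CategoryTheory.Pretriangulated

attribute [local instance] HasDerivedCategory.standard

namespace Groth.Agent.DerAdic9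

/-- Five-term sequence. -/
theorem dc_five {R : Type*} [CommRing R] {f : R} {M N W M' N' : Type*} [AddCommGroup M] [Module R M]
    [AddCommGroup N] [Module R N] [AddCommGroup W] [Module R W] [AddCommGroup M'] [Module R M'] [AddCommGroup N']
    [Module R N'] (a : M →ₗ[R] N) (b : N →ₗ[R] W) (c : W →ₗ[R] M') (d : M' →ₗ[R] N')
    (hab : LinearMap.range a = LinearMap.ker b) (hbc : LinearMap.range b = LinearMap.ker c)
    (hcd : LinearMap.range c = LinearMap.ker d) (hM : DCpl.DC M f) (hN : DCpl.DC N f) (hM' : DCpl.DC M' f)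
    (hN' : DCpl.DC N' f) : DCpl.DC W f := by
  refine DCpl.DC.extension (LinearMap.range b) ?_ ?_
  · exact (hM.quotient_range hN a).of_linearEquiv
      ((Submodule.quotEquivOfEq _ _ hab).trans b.quotKerEquivRange)
  · exact (hM'.ker hN' d).of_linearEquiv
      (((Submodule.quotEquivOfEq _ _ hbc).trans c.quotKerEquivRange).trans (LinearEquiv.ofEq _ _ hcd)).symm

section Tri

variable {C : Type u} [Category.{v} C] [Preadditive C] [HasZeroObject C] [HasShift C ℤ]
  [∀ n : ℤ, (shiftFunctor C n).Additive] [Pretriangulated C] {R : Type w} [CommRing R] [Linear R C]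

/-- Maps into the third vertex of a triangle. -/
theorem dc_hom_triangle (P : C) (T : Triangle C) (hT : T ∈ distTriang C) (f : R)
    (h₁ : DCpl.DC (P ⟶ T.obj₁) f) (h₂ : DCpl.DC (P ⟶ T.obj₂) f) (h₁' : DCpl.DC (P ⟶ T.obj₁⟦(1 : ℤ)⟧) f)
    (h₂' : DCpl.DC (P ⟶ T.obj₂⟦(1 : ℤ)⟧) f) : DCpl.DC (P ⟶ T.obj₃) f := by
  refine dc_five (Linear.rightComp R P T.mor₁) (Linear.rightComp R P T.mor₂) (Linear.rightComp R P T.mor₃)
    (Linear.rightComp R P (-T.mor₁⟦(1 : ℤ)⟧')) ?_ ?_ ?_ h₁ h₂ h₁' h₂'
  · refine le_antisymm (LinearMap.range_le_ker_iff.2 (LinearMap.ext fun x => ?_)) fun x hx => ?_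
    · show (x ≫ T.mor₁) ≫ T.mor₂ = 0
      rw [Category.assoc, comp_distTriang_mor_zero₁₂ _ hT, comp_zero]
    · obtain ⟨y, hy⟩ := Triangle.coyoneda_exact₂ _ hT x hx
      exact ⟨y, hy.symm⟩
  · refine le_antisymm (LinearMap.range_le_ker_iff.2 (LinearMap.ext fun x => ?_)) fun x hx => ?_
    · show (x ≫ T.mor₂) ≫ T.mor₃ = 0
      rw [Category.assoc, comp_distTriang_mor_zero₂₃ _ hT, comp_zero]
    · obtain ⟨y, hy⟩ := Triangle.coyoneda_exact₂ _ (rot_of_distTriang _ hT) x hx
      exact ⟨y, hy.symm⟩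
  · refine le_antisymm (LinearMap.range_le_ker_iff.2 (LinearMap.ext fun x => ?_)) fun x hx => ?_
    · show (x ≫ T.mor₃) ≫ (-T.mor₁⟦(1 : ℤ)⟧') = 0
      rw [Category.assoc, Preadditive.comp_neg, comp_distTriang_mor_zero₃₁ _ hT, neg_zero, comp_zero]
    · obtain ⟨y, hy⟩ := Triangle.coyoneda_exact₂ _ (rot_of_distTriang _ (rot_of_distTriang _ hT)) x hx
      exact ⟨y, hy.symm⟩

variable [∀ n : ℤ, (shiftFunctor C n).Linear R]

/-- Maps into all shifts of the third vertex. -/
theorem dc_hom_triangle_shift (P : C) (T : Triangle C) (hT : T ∈ distTriang C) (f : R)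
    (h₁ : ∀ n : ℤ, DCpl.DC (P ⟶ T.obj₁⟦n⟧) f) (h₂ : ∀ n : ℤ, DCpl.DC (P ⟶ T.obj₂⟦n⟧) f) (n : ℤ) :
    DCpl.DC (P ⟶ T.obj₃⟦n⟧) f :=
  dc_hom_triangle P _ (Triangle.shift_distinguished _ hT n) f (h₁ n) (h₂ n)
    ((h₁ (n + 1)).of_linearEquiv (Linear.homCongr R (Iso.refl P) ((shiftFunctorAdd C n 1).app T.obj₁)))
    ((h₂ (n + 1)).of_linearEquiv (Linear.homCongr R (Iso.refl P) ((shiftFunctorAdd C n 1).app T.obj₂)))

end Tri

variable {A : Type u} [Category.{v} A] [Abelian A] {R : Type w} [CommRing R] [Linear R A]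

/-- Complete Hom modules into an object killed by iterated cones vanish. -/
theorem subsingleton_hom_of_kos (P : DerivedCategory A) : ∀ (as : List R) (K : CochainComplex A ℤ),
    (∀ s ∈ as, ∀ n : ℤ, DCpl.DC (P ⟶ (DerivedCategory.Q.obj K)⟦n⟧) s) →
    IsZero (DerivedCategory.Q.obj (DerNull9.kos as K)) →
      ∀ n : ℤ, Subsingleton (P ⟶ (DerivedCategory.Q.obj K)⟦n⟧)
  | [], K, _, h, n => ⟨fun _ _ => (Functor.map_isZero _ h).eq_of_tgt _ _⟩
  | s :: as, K, hdc, h, n => by
    let T := DerivedCategory.Q.mapTriangle.obj (CochainComplex.mappingCone.triangle (s • 𝟙 K))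
    have hT : T ∈ distTriang (DerivedCategory A) :=
      DerivedCategory.mappingCone_triangle_distinguished (s • 𝟙 K)
    have hm : T.mor₁ = s • 𝟙 (DerivedCategory.Q.obj K) := by
      change DerivedCategory.Q.map (s • 𝟙 K) = _
      rw [Functor.map_smul, CategoryTheory.Functor.map_id]
    have hz := subsingleton_hom_of_kos P as (CochainComplex.mappingCone (s • 𝟙 K))
      (fun t ht => dc_hom_triangle_shift P T hT t (hdc t (List.mem_cons_of_mem _ ht))
        (hdc t (List.mem_cons_of_mem _ ht))) h n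
    have hs : ∀ x : P ⟶ (DerivedCategory.Q.obj K)⟦n⟧, ∃ y : P ⟶ (DerivedCategory.Q.obj K)⟦n⟧, x = s • y :=
      fun x => by
        obtain ⟨y, hy⟩ := Triangle.coyoneda_exact₂ _ (Triangle.shift_distinguished _ hT n) x
          (@Subsingleton.elim _ hz _ _)
        refine ⟨n.negOnePow • y, hy.trans ?_⟩
        show y ≫ (n.negOnePow • T.mor₁⟦n⟧') = _
        rw [hm, Functor.map_smul]
        erw [CategoryTheory.Functor.map_id]
        rw [Linear.comp_units_smul, Linear.comp_smul, smul_comm]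
        exact congrArg (fun t => s • n.negOnePow • t) (Category.comp_id _)
    refine ⟨fun x x' => ?_⟩
    suffices ∀ x : P ⟶ (DerivedCategory.Q.obj K)⟦n⟧, x = 0 from (this x).trans (this x').symm
    intro x
    let y : ℕ → (P ⟶ (DerivedCategory.Q.obj K)⟦n⟧) := fun k => k.rec x fun _ z => (hs z).choose
    exact congrFun ((hdc s List.mem_cons_self n).eq_zero (x := y) fun k => (hs (y k)).choose_spec) 0

end Groth.Agent.DerAdic9
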