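import Groth.Agent.Lib.DMV.GammaUnit
import Groth.Agent.Lib.DMod.Homology
import Groth.Agent.Lib.DCpl.Module
import Groth.Agent.Lib.DerNull9.Orth
import Mathlib.CategoryTheory.Linear.Yoneda
import Mathlib.RingTheory.AdicCompletion.Completeness
import Mathlib.RingTheory.AdicCompletion.Functoriality

/-!
Homs from a single object as homology, and derived completeness of Hom modules.
-/

set_option autoImplicit false
set_option linter.unusedSectionVars false
set_option linter.style.haveILetI false
set_option backward.isDefEq.respectTransparency false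
set_option backward.isDefEq.respectTransparency.types false

universe v v' u w

open CategoryTheory CategoryTheory.Limits Opposite CategoryTheory.Pretriangulated

attribute [local instance] HasDerivedCategory.standard

namespace Groth.Agent.DerAdic9

section Adic

variable {R : Type*} [CommRing R] (I : Ideal R) {M N : Type*} [AddCommGroup M] [Module R M] [AddCommGroup N]
  [Module R N]

theorem isAdicComplete_of_linearEquiv (e : M ≃ₗ[R] N) [IsAdicComplete I M] : IsAdicComplete I N := by
  have hm : ∀ n : ℕ, Submodule.map e.toLinearMap (I ^ n • ⊤ : Submodule R M) = I ^ n • ⊤ := fun n => by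
    rw [Submodule.map_smul'', Submodule.map_top, LinearEquiv.range]
  have hs : ∀ (n : ℕ) (x y : N), x ≡ y [SMOD (I ^ n • ⊤ : Submodule R N)] ↔
      e.symm x ≡ e.symm y [SMOD (I ^ n • ⊤ : Submodule R M)] := fun n x y => by
    rw [SModEq.sub_mem, SModEq.sub_mem, ← hm, Submodule.mem_map_equiv, map_sub]
  refine { haus' := fun x hx => ?_, prec' := fun f hf => ?_ }
  · refine e.symm.injective ((IsHausdorff.haus (I := I) inferInstance (e.symm x) fun n => ?_).trans (map_zero e.symm).symm)
    simpa using (hs n x 0).1 (hx n)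
  · obtain ⟨L, hL⟩ := IsPrecomplete.prec (I := I) inferInstance (f := fun n => e.symm (f n))
      fun {m n} h => (hs m _ _).1 (hf h)
    exact ⟨e L, fun n => (hs n _ _).2 (by simpa using hL n)⟩

variable {P : Type*} [AddCommGroup P] [Module R P]

/-- A map identified with the map into the completion is dense and reflects the filtration. -/
theorem adic_of_equiv (hI : I.FG) (e : N ≃ₗ[R] AdicCompletion I P) (g : M ≃ₗ[R] P) (F : M →ₗ[R] N)
    (h : ∀ x, e (F x) = AdicCompletion.of I P (g x)) :
    IsAdicComplete I N ∧ ∀ n : ℕ, (∀ y : N, ∃ x : M, F x - y ∈ (I ^ n • ⊤ : Submodule R N)) ∧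
      ∀ x : M, F x ∈ (I ^ n • ⊤ : Submodule R N) → x ∈ (I ^ n • ⊤ : Submodule R M) := by
  haveI := AdicCompletion.isAdicComplete (M := P) hI
  refine ⟨isAdicComplete_of_linearEquiv I e.symm, fun n => ?_⟩
  have hmem : ∀ z : N, z ∈ (I ^ n • ⊤ : Submodule R N) ↔ AdicCompletion.eval I P n (e z) = 0 := fun z => by
    rw [← LinearMap.mem_ker, ← AdicCompletion.pow_smul_top_eq_ker_eval hI,
      ← e.symm.range, ← Submodule.map_top, ← Submodule.map_smul'', Submodule.mem_map_equiv, LinearEquiv.symm_symm]
  refine ⟨fun y => ?_, fun x hx => ?_⟩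
  · obtain ⟨p, hp⟩ := Submodule.mkQ_surjective _ (AdicCompletion.eval I P n (e y))
    refine ⟨g.symm p, (hmem _).2 ?_⟩
    rw [map_sub, h, g.apply_symm_apply, map_sub, AdicCompletion.eval_of, hp, sub_self]
  · have h0 := (hmem _).1 hx
    rw [h, AdicCompletion.eval_of, Submodule.mkQ_apply, Submodule.Quotient.mk_eq_zero] at h0
    rwa [← g.symm.range, ← Submodule.map_top, ← Submodule.map_smul'', Submodule.mem_map_equiv, LinearEquiv.symm_symm]

end Adic

local notation "Cx" => ComplexShape.up ℤ

variable {A : Type u} [Category.{v} A] [Abelian A] [IsGrothendieckAbelian.{v} A] {R : Type v} [CommRing R]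
  [Linear R A]

/-- The linear functor of maps out of `P`. -/
noncomputable abbrev HomF (P : A) : A ⥤ ModuleCat.{v} R := (linearCoyoneda R A).obj (op P)

theorem HomF_map_smul (P : A) (r : R) (M : A) : (HomF (R := R) P).map (r • 𝟙 M) = r • 𝟙 ((HomF (R := R) P).obj M) := by
  refine ModuleCat.hom_ext (LinearMap.ext fun f => ?_)
  show f ≫ (r • 𝟙 M) = r • f
  rw [Linear.comp_smul, Category.comp_id]

variable (P : A) (I : CochainComplex A ℤ)

/-- A cycle as a map out of the single complex. -/
noncomputable def cycleHom (n : ℤ) (z : (((HomF (R := R) P).mapHomologicalComplex Cx).obj I).cycles n) :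
    (HomologicalComplex.single A Cx n).obj P ⟶ I :=
  HomologicalComplex.mkHomFromSingle
    (show P ⟶ I.X n from (((HomF (R := R) P).mapHomologicalComplex Cx).obj I).iCycles n z)
    fun j _ => DMod.d_iCycles n j z

theorem cycleHom_f (n : ℤ) (z : (((HomF (R := R) P).mapHomologicalComplex Cx).obj I).cycles n) :
    (HomologicalComplex.singleObjXSelf Cx n P).inv ≫ (cycleHom P I n z).f n =
      (((HomF (R := R) P).mapHomologicalComplex Cx).obj I).iCycles n z := by
  simp [cycleHom]

/-- Cycles as maps in the derived category. -/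
noncomputable def cycleMap (n : ℤ) :
    (((HomF (R := R) P).mapHomologicalComplex Cx).obj I).cycles n →ₗ[R]
      (DerivedCategory.Q.obj ((HomologicalComplex.single A Cx n).obj P) ⟶ DerivedCategory.Q.obj I) where
  toFun z := DerivedCategory.Q.map (cycleHom P I n z)
  map_add' z w := by
    rw [← Functor.map_add]
    congr 1
    refine HomologicalComplex.from_single_hom_ext ((cancel_epi (HomologicalComplex.singleObjXSelf Cx n P).inv).1 ?_)
    rw [HomologicalComplex.add_f_apply, Preadditive.comp_add, cycleHom_f, cycleHom_f, cycleHom_f, map_add]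
  map_smul' r z := by
    rw [RingHom.id_apply, ← Functor.map_smul]
    congr 1
    refine HomologicalComplex.from_single_hom_ext ((cancel_epi (HomologicalComplex.singleObjXSelf Cx n P).inv).1 ?_)
    rw [HomologicalComplex.smul_f_apply, Linear.comp_smul, cycleHom_f, cycleHom_f, map_smul]

theorem cycleMap_surjective [I.IsKInjective] (n : ℤ) : Function.Surjective (cycleMap (R := R) P I n) := fun t => by
  obtain ⟨k, rfl⟩ := KInjLib.exists_map_eq t
  obtain ⟨z, hz⟩ := DMod.exists_cycle (K := ((HomF (R := R) P).mapHomologicalComplex Cx).obj I) (j := n) (k := n + 1)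
    (by simp) ((HomologicalComplex.singleObjXSelf Cx n P).inv ≫ k.f n)
    (by
      show ((HomologicalComplex.singleObjXSelf Cx n P).inv ≫ k.f n) ≫ I.d n (n + 1) = 0
      rw [Category.assoc]
      exact DMV.single_comp_d k (n + 1))
  refine ⟨z, congrArg (fun q => DerivedCategory.Q.map q)
    (HomologicalComplex.from_single_hom_ext ((cancel_epi (HomologicalComplex.singleObjXSelf Cx n P).inv).1 ?_))⟩
  rw [cycleHom_f]
  exact hz

theorem ker_cycleMap [I.IsKInjective] (n : ℤ) :
    LinearMap.ker (cycleMap (R := R) P I n) =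
      LinearMap.ker ((((HomF (R := R) P).mapHomologicalComplex Cx).obj I).homologyπ n).hom := by
  ext z
  rw [LinearMap.mem_ker, LinearMap.mem_ker, DMod.homologyπ_eq_zero_iff (i := n - 1) (by simp)]
  constructor
  · intro h
    obtain ⟨H⟩ := (KInjLib.map_eq_iff (cycleHom P I n z) 0).1 (h.trans (DerivedCategory.Q.map_zero _ _).symm :)
    obtain ⟨w, hw⟩ := DMV.exists_of_homotopy H
    rw [cycleHom_f, HomologicalComplex.zero_f, comp_zero, add_zero] at hw
    exact ⟨w, hw.symm⟩
  · rintro ⟨w, hw⟩
    obtain ⟨H⟩ := DMV.nullHomotopic_of_boundary (cycleHom P I n z) w (by rw [cycleHom_f]; exact hw.symm)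
    show DerivedCategory.Q.map _ = 0
    rw [DerivedCategory.Q_map_eq_of_homotopy _ H, Functor.map_zero]

/-- Homology of the complex of maps out of `P` is maps in the derived category. -/
noncomputable def homEquiv [I.IsKInjective] (n : ℤ) :
    (((HomF (R := R) P).mapHomologicalComplex Cx).obj I).homology n ≃ₗ[R]
      (DerivedCategory.Q.obj ((HomologicalComplex.single A Cx n).obj P) ⟶ DerivedCategory.Q.obj I) :=
  (((((HomF (R := R) P).mapHomologicalComplex Cx).obj I).homologyπ n).hom.quotKerEquivOfSurjective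
      (DMod.homologyπ_surjective _ n)).symm ≪≫ₗ
    Submodule.quotEquivOfEq _ _ (ker_cycleMap P I n).symm ≪≫ₗ
      (cycleMap (R := R) P I n).quotKerEquivOfSurjective (cycleMap_surjective P I n)

theorem homEquiv_π [I.IsKInjective] (n : ℤ) (z : (((HomF (R := R) P).mapHomologicalComplex Cx).obj I).cycles n) :
    homEquiv P I n ((((HomF (R := R) P).mapHomologicalComplex Cx).obj I).homologyπ n z) = cycleMap P I n z := by
  simp only [homEquiv, LinearEquiv.trans_apply]
  rw [show ((((HomF (R := R) P).mapHomologicalComplex Cx).obj I).homologyπ n).hom z =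
    ((((HomF (R := R) P).mapHomologicalComplex Cx).obj I).homologyπ n).hom.quotKerEquivOfSurjective
      (DMod.homologyπ_surjective _ n) (Submodule.Quotient.mk z) from rfl, LinearEquiv.symm_apply_apply]
  rfl

theorem homEquiv_naturality {I J : CochainComplex A ℤ} [I.IsKInjective] [J.IsKInjective] (φ : I ⟶ J) (n : ℤ)
    (x : (((HomF (R := R) P).mapHomologicalComplex Cx).obj I).homology n) :
    homEquiv P J n (HomologicalComplex.homologyMap (((HomF (R := R) P).mapHomologicalComplex Cx).map φ) n x) =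
      homEquiv P I n x ≫ DerivedCategory.Q.map φ := by
  obtain ⟨z, rfl⟩ := DMod.homologyπ_surjective _ n x
  rw [DMod.homologyMap_π, homEquiv_π, homEquiv_π]
  show DerivedCategory.Q.map _ = DerivedCategory.Q.map _ ≫ _
  rw [← Functor.map_comp]
  congr 1
  refine HomologicalComplex.from_single_hom_ext ((cancel_epi (HomologicalComplex.singleObjXSelf Cx n P).inv).1 ?_)
  rw [HomologicalComplex.comp_f, ← Category.assoc, cycleHom_f, cycleHom_f, DMod.iCycles_cyclesMap]
  rfl

open DerNull9 SiteLpull9 in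
/-- Orthogonality to telescopes makes Hom modules derived complete. -/
theorem dc_of_perp (f : R) (X : CochainComplex A ℤ) (Z : DerivedCategory A)
    (hT : DerVanish9.Perp Z (DerivedCategory.Q.obj (TelC f X))) : DCpl.DC (DerivedCategory.Q.obj X ⟶ Z) f := by
  haveI : HasExactColimitsOfShape ℕ A :=
    haveI : AB5OfSize.{0, 0} A := AB5OfSize_shrink.{0, 0, v, v} A
    AB5OfSize.ofShape _
  let c := KInjLib.isColimitSigma fun _ : ULift.{v} ℕ => X
  let e : (∐ fun _ : ℕ => X) ⟶ ∐ fun _ : ULift.{v} ℕ => X :=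
    Sigma.desc fun k => Sigma.ι (fun _ : ULift.{v} ℕ => X) ⟨k⟩
  let e' : (∐ fun _ : ULift.{v} ℕ => X) ⟶ ∐ fun _ : ℕ => X :=
    Sigma.desc fun k => Sigma.ι (fun _ : ℕ => X) k.down
  haveI : IsIso e := ⟨e', Sigma.hom_ext _ _ fun k => by simp [e, e'], Sigma.hom_ext _ _ fun k => by simp [e, e']⟩
  haveI : IsIso e' := ⟨e, Sigma.hom_ext _ _ fun k => by simp [e, e'], Sigma.hom_ext _ _ fun k => by simp [e, e']⟩
  have lift : ∀ y : ℕ → (DerivedCategory.Q.obj X ⟶ Z), ∃ Ψ : DerivedCategory.Q.obj (∐ fun _ : ℕ => X) ⟶ Z,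
      ∀ k, DerivedCategory.Q.map (Sigma.ι (fun _ : ℕ => X) k) ≫ Ψ = y k := fun y => by
    refine ⟨DerivedCategory.Q.map e ≫ Cofan.IsColimit.desc c fun k => y k.down, fun k => ?_⟩
    rw [← Category.assoc, ← Functor.map_comp, show Sigma.ι (fun _ : ℕ => X) k ≫ e = _ from Sigma.ι_desc _ _]
    exact Cofan.IsColimit.fac c (fun k => y k.down) ⟨k⟩
  have ext : ∀ a b : DerivedCategory.Q.obj (∐ fun _ : ℕ => X) ⟶ Z,
      (∀ k, DerivedCategory.Q.map (Sigma.ι (fun _ : ℕ => X) k) ≫ a = DerivedCategory.Q.map (Sigma.ι _ k) ≫ b) →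
        a = b := fun a b h => by
    rw [← cancel_epi (DerivedCategory.Q.map e')]
    refine Cofan.IsColimit.hom_ext c _ _ fun k => ?_
    show DerivedCategory.Q.map (Sigma.ι (fun _ : ULift.{v} ℕ => X) k) ≫ _ =
      DerivedCategory.Q.map (Sigma.ι (fun _ : ULift.{v} ℕ => X) k) ≫ _
    rw [← Category.assoc, ← Functor.map_comp, ← Category.assoc, ← Functor.map_comp, Sigma.ι_desc]
    exact h k.down
  have hι : ∀ (k : ℕ) (Φ : DerivedCategory.Q.obj (∐ fun _ : ℕ => X) ⟶ Z),
      DerivedCategory.Q.map (Sigma.ι (fun _ : ℕ => X) k) ≫ DerivedCategory.Q.map (telMap (f • 𝟙 X)) ≫ Φ =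
        DerivedCategory.Q.map (Sigma.ι (fun _ : ℕ => X) k) ≫ Φ -
          f • (DerivedCategory.Q.map (Sigma.ι (fun _ : ℕ => X) (k + 1)) ≫ Φ) := fun k Φ => by
    rw [← Category.assoc, ← Functor.map_comp, Sigma.ι_desc, Functor.map_sub, Functor.map_comp, Functor.map_smul,
      CategoryTheory.Functor.map_id, Preadditive.sub_comp, Category.assoc, Linear.smul_comp, Category.id_comp]
  have hS := DerivedCategory.triangleOfSES_distinguished (shortExact_telSC (f • 𝟙 X))
  let z := (shiftFunctorZero (DerivedCategory A) ℤ).app Z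
  refine ⟨fun x y hxy => ?_, fun y => ?_⟩
  · rw [← sub_eq_zero]
    obtain ⟨Φ, hΦ⟩ := lift (x - y)
    have h0 : DerivedCategory.Q.map (telMap (f • 𝟙 X)) ≫ Φ = 0 := ext _ _ fun k => by
      rw [hι, hΦ, hΦ, comp_zero, ← DCpl.tele_apply, map_sub, hxy, sub_self]
      rfl
    obtain ⟨ψ, hψ⟩ := Triangle.yoneda_exact₂ _ hS Φ h0
    have hz : ψ = 0 := (cancel_mono z.inv).1 (@Subsingleton.elim _ (hT 0) _ _)
    funext k
    rw [← hΦ k, hψ, hz, comp_zero, comp_zero]
    rfl
  · obtain ⟨Y, hY⟩ := lift y
    obtain ⟨Φ, hΦ⟩ := Triangle.yoneda_exact₂ _ (inv_rot_of_distTriang _ hS) Y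
      (@Subsingleton.elim _ (DerNull9.perp_shift_right hT (-1) 0 |> fun h =>
        (Iso.homCongr (Iso.refl _) z).subsingleton_congr.1 h) _ _)
    refine ⟨fun k => DerivedCategory.Q.map (Sigma.ι (fun _ : ℕ => X) k) ≫ Φ, funext fun k => ?_⟩
    rw [DCpl.tele_apply, ← hι, ← hY k, hΦ]
    rfl

end Groth.Agent.DerAdic9
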