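import Groth.Agent.Lib.DerAdic9.Affine

/-!
Derived completion of a coherent module has no higher cohomology on affine opens.
-/

set_option autoImplicit false
set_option linter.unusedSectionVars false
set_option linter.style.haveILetI false
set_option backward.isDefEq.respectTransparency false
set_option backward.isDefEq.respectTransparency.types false

universe u

open CategoryTheory CategoryTheory.Limits Opposite AlgebraicGeometry DerComp

attribute [local instance] HasDerivedCategory.standard

namespace Groth.Agent.DerAdic9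

open DerNull9 DerVanish9

section Gen

theorem finite_of_semilinear {R S M N : Type*} [CommRing R] [CommRing S] [AddCommGroup M] [Module R M]
    [AddCommGroup N] [Module S N] [Module.Finite S N] (σ : R ≃+* S) (v : M ≃+ N)
    (h : ∀ (r : R) (m : M), v (r • m) = σ r • v m) : Module.Finite R M := by
  obtain ⟨n, g, hg⟩ := Module.Finite.exists_fin (R := S) (M := N)
  refine ⟨Submodule.fg_def.2 ⟨Set.range fun i => v.symm (g i), Set.finite_range _, ?_⟩⟩
  rw [eq_top_iff]
  rintro m -
  rw [← v.symm_apply_apply m]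
  have hh : v m ∈ Submodule.span S (Set.range g) := hg ▸ trivial
  generalize v m = y at hh ⊢
  induction hh using Submodule.span_induction with
  | mem x hx => obtain ⟨i, rfl⟩ := hx; exact Submodule.subset_span ⟨i, rfl⟩
  | zero => rw [map_zero]; exact zero_mem _
  | add x y _ _ hx hy => rw [map_add]; exact add_mem hx hy
  | smul r x _ hx =>
    obtain ⟨s, rfl⟩ := σ.surjective r
    rw [show v.symm (σ s • x) = s • v.symm x from
      v.injective ((v.apply_symm_apply _).trans (by rw [h, v.apply_symm_apply]))]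
    exact Submodule.smul_mem _ s hx

theorem subsingleton_of_adic {R M N : Type*} [CommRing R] [AddCommGroup M] [Module R M] [AddCommGroup N] [Module R N]
    [Subsingleton M] (J : Ideal R) (F : M →ₗ[R] N) (hN : IsAdicComplete J N)
    (h : ∀ m : ℕ, ∀ y : N, ∃ x : M, F x - y ∈ (J ^ m • ⊤ : Submodule R N)) : Subsingleton N := by
  refine subsingleton_of_forall_eq 0 fun y => IsHausdorff.haus (I := J) inferInstance y fun m => ?_
  obtain ⟨x, hx⟩ := h m y
  rw [Subsingleton.elim x 0, map_zero, zero_sub] at hx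
  simpa [SModEq.sub_mem] using hx

theorem finite_of_iso_single {R : Type*} [CommRing R] {A : Type*} [Category A] [Abelian A] [Linear R A] (P M : A)
    (m : ℤ) {E : DerivedCategory A} (e : (DerivedCategory.singleFunctor A m).obj M ≅ E)
    (hf : Module.Finite R (P ⟶ M)) :
    Module.Finite R ((DerivedCategory.singleFunctor A m).obj P ⟶ E) := by
  haveI := hf
  let L : (P ⟶ M) →ₗ[R] ((DerivedCategory.singleFunctor A m).obj P ⟶ E) :=
    { toFun := fun f => (DerivedCategory.singleFunctor A m).map f ≫ e.hom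
      map_add' := fun f g => by rw [Functor.map_add, Preadditive.add_comp]
      map_smul' := fun r f => by rw [Functor.map_smul, Linear.smul_comp, RingHom.id_apply] }
  refine Module.Finite.of_surjective L fun t => ?_
  obtain ⟨f, hf⟩ := (DerivedCategory.singleFunctor A m).map_surjective (t ≫ e.inv)
  exact ⟨f, show (DerivedCategory.singleFunctor A m).map f ≫ e.hom = t by
    rw [hf, Category.assoc, e.inv_hom_id, Category.comp_id]⟩

end Gen

variable {X : Scheme.{u}} (U : X.Opens)

/-- Global sections on a slice. -/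
noncomputable def gsecOverEquiv : GSec (X.sheaf.over U) ≃+* X.sheaf.obj.obj (op U) :=
  RingEquiv.ofBijective
    ((Pi.evalRingHom (fun A : Over U => (X.sheaf.over U).obj.obj (op A)) (Over.mk (𝟙 U))).comp
      (GSec (X.sheaf.over U)).subtype)
    ⟨fun s t h => Subtype.ext (funext fun A => by
      rw [← GSec.compat s (Over.homMk A.hom : A ⟶ Over.mk (𝟙 U)), ← GSec.compat t (Over.homMk A.hom : A ⟶ Over.mk (𝟙 U))]
      exact congrArg _ h),
    fun f => ⟨GSec.ofSect X.sheaf U f, DerVanish9.map_id f⟩⟩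

theorem isNoetherianRing_gsec_over [IsLocallyNoetherian X] (hU : IsAffineOpen U) :
    IsNoetherianRing (GSec (X.sheaf.over U)) :=
  haveI : IsNoetherianRing (X.sheaf.obj.obj (op U)) := IsLocallyNoetherian.component_noetherian ⟨U, hU⟩
  isNoetherianRing_of_ringEquiv _ (gsecOverEquiv U).symm

theorem finite_hom_unit_over {M : X.Modules} (hM : Coh.IsCoh M) (hU : IsAffineOpen U) :
    Module.Finite (GSec (X.sheaf.over U))
      (ModSite.unit (X.sheaf.over U) ⟶ (ModSite.restr X.sheaf U).obj (M : ModSite.Mod X.sheaf)) := by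
  haveI := M1.finite_sections hM.1 hM.2 hU
  let v := (SheafOfModules.unitHomEquiv ((ModSite.restr X.sheaf U).obj (M : ModSite.Mod X.sheaf))).trans
    (ModFlat16.sectionsEquivTop X.sheaf ((ModSite.restr X.sheaf U).obj (M : ModSite.Mod X.sheaf)))
  let vadd : (ModSite.unit (X.sheaf.over U) ⟶ (ModSite.restr X.sheaf U).obj (M : ModSite.Mod X.sheaf)) ≃+ Γ(M, U) :=
    { v with map_add' := fun _ _ => rfl }
  refine finite_of_semilinear (S := Γ(X, U)) (gsecOverEquiv U) vadd fun s h => ?_
  rw [smul_def, smulEnd_comm]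
  rfl

theorem subsingleton_completion_cohomology [IsLocallyNoetherian X] (𝓘 : IdealSh X.sheaf)
    (hqc : ∀ (U : X.affineOpens) (g : Γ(X, ↑U)), 𝓘.ideal (X.basicOpen g) =
      Ideal.map (X.presheaf.map (homOfLE (X.basicOpen_le g)).op).hom (𝓘.ideal ↑U))
    [HasDerCompletion X.sheaf 𝓘] (F : X.Modules) (hF : Coh.IsCoh F) (hU : IsAffineOpen U) (p : ℤ) (hp : p ≠ 0) :
    Subsingleton (SiteCmp.inD X.sheaf (ModSite.freeOn X.sheaf U) ⟶
      ((derCompletion X.sheaf 𝓘).obj (SiteCmp.inD X.sheaf F)).obj⟦p⟧) := by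
  haveI := isNoetherianRing_gsec_over U hU
  haveI : IsGrothendieckAbelian.{u} (ModSite.Mod X.sheaf) :=
    CohFound.isGrothendieckAbelian_sheafOfModules (ModSite.ringSh X.sheaf)
  haveI : IsGrothendieckAbelian.{u} (ModSite.Mod (X.sheaf.over U)) :=
    CohFound.isGrothendieckAbelian_sheafOfModules (ModSite.ringSh (X.sheaf.over U))
  haveI := ModFlat16.preservesFiniteLimits_extZero X.sheaf U
  haveI := preservesFiniteColimits_extZero X.sheaf U
  haveI := preservesFiniteLimits_restr X.sheaf U
  haveI := preservesFiniteColimits_restr X.sheaf U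
  let K := SiteCmp.inD X.sheaf (F : ModSite.Mod X.sheaf)
  let η := toDerCompletion 𝓘 K
  let L := ((derCompletion X.sheaf 𝓘).obj K).obj
  obtain ⟨I₁, hI₁, ⟨e₁⟩⟩ := exists_kInj (K⟦p⟧)
  obtain ⟨I₂, hI₂, ⟨e₂⟩⟩ := exists_kInj (L⟦p⟧)
  obtain ⟨φ, hφ⟩ := KInjLib.exists_map_eq (e₁.hom ≫ η⟦p⟧' ≫ e₂.inv)
  haveI := RHomAway9.isKInjective_mappingCone φ
  haveI := isKInjective_Rx X.sheaf U I₁
  haveI := isKInjective_Rx X.sheaf U I₂
  have hL : IsDerComp X.sheaf 𝓘 (L⟦p⟧) := isDerComp_shift ((derCompletion X.sheaf 𝓘).obj K).property p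
  haveI hNU : IsNoetherianRing (X.sheaf.obj.obj (op U)) := IsLocallyNoetherian.component_noetherian ⟨U, hU⟩
  obtain ⟨r, a, ha⟩ := Submodule.fg_iff_exists_fin_generating_family.1
    (hNU.noetherian (𝓘.ideal U))
  have hmem : ∀ i, a i ∈ 𝓘.ideal U := fun i => ha ▸ Submodule.subset_span ⟨i, rfl⟩
  have hη : ∀ Y, IsDerComp X.sheaf 𝓘 Y → Function.Bijective fun g : L⟦p⟧ ⟶ Y => η⟦p⟧' ≫ g := fun Y hY => by
    have h0 : ∀ W, IsDerComp X.sheaf 𝓘 W → Function.Bijective fun g : L ⟶ W => η ≫ g := fun W hW => by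
      have h := ((derCompletionAdj X.sheaf 𝓘).homEquiv K ⟨W, hW⟩).bijective.comp
        (ObjectProperty.fullyFaithfulι _).homEquiv.symm.bijective
      convert h using 1
      funext t
      show _ = (derCompletionAdj X.sheaf 𝓘).homEquiv K ⟨W, hW⟩ ((ObjectProperty.fullyFaithfulι _).homEquiv.symm t)
      rw [Adjunction.homEquiv_unit]
      rfl
    let adj : shiftFunctor (DerivedCategory (ModSite.Mod X.sheaf)) p ⊣
        shiftFunctor (DerivedCategory (ModSite.Mod X.sheaf)) (-p) :=
      (shiftEquiv' (DerivedCategory (ModSite.Mod X.sheaf)) p (-p) (add_neg_cancel p)).toAdjunction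
    have h := ((adj.homEquiv K Y).symm.bijective.comp (h0 _ (isDerComp_shift hY (-p)))).comp (adj.homEquiv L Y).bijective
    convert h using 1
    funext g
    simp only [Function.comp_apply]
    rw [adj.homEquiv_naturality_left_symm, Equiv.symm_apply_apply]
  have hX : ∀ Y, IsDerComp X.sheaf 𝓘 Y → Perp Y (DerivedCategory.Q.obj (CochainComplex.mappingCone φ)) := fun Y hY =>
    (bijective_precomp_iff φ Y).1 fun n => by
      have hb := ((Iso.homCongr e₁.symm (Iso.refl (Y⟦n⟧))).bijective.comp
        (hη _ (isDerComp_shift hY n))).comp (Iso.homCongr e₂ (Iso.refl (Y⟦n⟧))).bijective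
      convert hb using 1
      funext g
      simp [hφ]
  have hN : Null X.sheaf a (CochainComplex.mappingCone φ) := by
    refine null_of_leftOrth 𝓘 (fun W g => g ∈ 𝓘.ideal W)
      (fun K' hK' => fun W g hg n => (good_iff X.sheaf K' W g).2 (hK' W g hg) n) (fun W g hg B q y => ?_) _ hX
    let S : Sieve B :=
      { arrows := fun {B'} _ => ∃ h : Γ(X, U), X.basicOpen h ≤ B ∧ B' ≤ X.basicOpen h
        downward_closed := fun {B' B''} _ hh k => by obtain ⟨h, h1, h2⟩ := hh; exact ⟨h, h1, k.le.trans h2⟩ }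
    refine ⟨S, fun x hx => ?_, fun B' k hk => ?_⟩
    · obtain ⟨h, hle, hxh⟩ := hU.exists_basicOpen_le (V := B) ⟨x, hx⟩ (y.le hx)
      exact ⟨X.basicOpen h, homOfLE hle, ⟨h, hle, le_rfl⟩, hxh⟩
    · obtain ⟨h, hle, hh⟩ := hk
      let ι : B' ⟶ X.basicOpen h := homOfLE hh
      let j : X.basicOpen h ⟶ W := homOfLE (hle.trans q.le)
      let jU : X.basicOpen h ⟶ U := homOfLE (X.basicOpen_le h)
      have h1 : (X.sheaf.obj.map j.op).hom g ∈
          Ideal.map (X.sheaf.obj.map jU.op).hom (𝓘.ideal U) :=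
        Set.mem_of_mem_of_subset (𝓘.map_mem j hg) (hqc ⟨U, hU⟩ h).le
      have hspan : 𝓘.ideal U = Ideal.span (Set.range a) := ha.symm
      rw [hspan, Ideal.map_span] at h1
      have h2 := Ideal.mem_map_of_mem (X.sheaf.obj.map ι.op).hom h1
      rw [Ideal.map_span, DerVanish9.map_map, ← Set.range_comp, ← Set.range_comp] at h2
      rw [DerVanish9.map_map, show k ≫ q = ι ≫ j from Subsingleton.elim _ _]
      refine Ideal.span_mono ?_ h2
      rintro _ ⟨i, rfl⟩
      refine ⟨i, ?_⟩
      simp only [Function.comp_apply]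
      rw [DerVanish9.map_map, show k ≫ y = ι ≫ jU from Subsingleton.elim _ _]
  obtain ⟨em⟩ := nonempty_kosIso (sects X.sheaf a)
    (CochainComplex.mappingCone.mapHomologicalComplexIso φ (ModSite.restr X.sheaf U))
  have hnull : IsZero (DerivedCategory.Q.obj (kos (sects X.sheaf a)
      (CochainComplex.mappingCone ((Rx X.sheaf U).map φ)))) := IsZero.of_iso hN (DerivedCategory.Q.mapIso em).symm
  have hperp : ∀ s ∈ sects X.sheaf a, ∀ Y : CochainComplex (ModSite.Mod (X.sheaf.over U)) ℤ,
      Perp (DerivedCategory.Q.obj ((Rx X.sheaf U).obj I₂)) (DerivedCategory.Q.obj (TelC s Y)) := by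
    intro s hs Y
    obtain ⟨i, rfl⟩ := List.mem_ofFn.1 hs
    exact perp_telC ((isDerComp_iff_le _ 𝓘).1 hL U (hmem i)) I₂ e₂ Y
  let σ : (DerivedCategory.singleFunctor (ModSite.Mod X.sheaf) (-p)).obj F ≅ DerivedCategory.Q.obj I₁ :=
    (((DerivedCategory.singleFunctors (ModSite.Mod X.sheaf)).shiftIso p (-p) 0 (by omega)).app _).symm ≪≫ e₁.symm
  have hsub : ∀ n : ℤ, n ≠ -p → Subsingleton (DerivedCategory.Q.obj
      ((HomologicalComplex.single (ModSite.Mod (X.sheaf.over U)) (ComplexShape.up ℤ) n).obj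
        (ModSite.unit (X.sheaf.over U))) ⟶ DerivedCategory.Q.obj ((Rx X.sheaf U).obj I₁)) := fun n hn => by
    refine (subsingleton_adj_iff (ModSite.extZeroAdj X.sheaf U) _ I₁).1 ?_
    refine (Iso.homCongr (DerivedCategory.Q.mapIso ((HomologicalComplex.singleMapHomologicalComplex
      (ModSite.extZero X.sheaf U) (ComplexShape.up ℤ) n).app (ModSite.unit (X.sheaf.over U))) ≪≫
      ((DerivedCategory.singleFunctorIsoCompQ _ n).app (ModSite.freeOn X.sheaf U)).symm) σ.symm).subsingleton_congr.2 ?_
    have hq : DCoh.IsQCohD ((DerivedCategory.singleFunctor X.Modules (-p)).obj F) :=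
      fun k => by
        rcases lt_trichotomy k (-p) with h | rfl | h
        · exact (QCohCat.isQCoh X).prop_of_isZero (DerivedCategory.isZero_of_isGE _ (-p) k h)
        · exact M1.isQCoh_of_isIso
            ((DerivedCategory.singleFunctorCompHomologyFunctorIso X.Modules (-p)).app F).symm hF.1
        · exact (QCohCat.isQCoh X).prop_of_isZero (DerivedCategory.isZero_of_isLE _ (-p) k h)
    have hz : IsZero (DCoh.HD ((DerivedCategory.singleFunctor X.Modules (-p)).obj F) n) := by
      rcases lt_or_gt_of_ne hn with h | h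
      · exact DerivedCategory.isZero_of_isGE _ (-p) n h
      · exact DerivedCategory.isZero_of_isLE _ (-p) n h
    haveI : Subsingleton ((DQC.gen X).obj U ⟶
        (DerivedCategory.homologyFunctor X.Modules n).obj ((DerivedCategory.singleFunctor X.Modules (-p)).obj F)) :=
      ⟨fun f g => hz.eq_of_tgt f g⟩
    exact (DQC.bijective_θ (X := X) _ hq hU n).1.subsingleton
  have hfin : ∀ n : ℤ, Module.Finite (GSec (X.sheaf.over U)) (DerivedCategory.Q.obj
      ((HomologicalComplex.single (ModSite.Mod (X.sheaf.over U)) (ComplexShape.up ℤ) n).obj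
        (ModSite.unit (X.sheaf.over U))) ⟶ DerivedCategory.Q.obj ((Rx X.sheaf U).obj I₁)) := fun n => by
    by_cases hn : n = -p
    · subst hn
      refine finite_hom_single_congr _ _ (Iso.refl _) (finite_of_iso_single _ _ _ ?_ (finite_hom_unit_over U hF hU))
      exact (((ModSite.restr X.sheaf U).mapDerivedCategorySingleFunctor (-p)).app F).symm ≪≫
        (ModSite.restr X.sheaf U).mapDerivedCategory.mapIso σ ≪≫
        (ModSite.restr X.sheaf U).mapDerivedCategoryFactors.app I₁
    · haveI := hsub n hn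
      exact Module.Finite.of_finite
  obtain ⟨hcpl, hdense⟩ := adic_core (ModSite.unit (X.sheaf.over U)) (sects X.sheaf a) _ rfl ((Rx X.sheaf U).map φ)
    hnull hperp hfin 0
  haveI := hsub 0 (by omega)
  haveI := subsingleton_of_adic _ _ hcpl fun m => (hdense m).1
  refine (Iso.homCongr ?_ e₂).subsingleton_congr.1
    ((subsingleton_adj_iff (ModSite.extZeroAdj X.sheaf U)
      ((HomologicalComplex.single (ModSite.Mod (X.sheaf.over U)) (ComplexShape.up ℤ) 0).obj
        (ModSite.unit (X.sheaf.over U))) I₂).2 inferInstance)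
  exact DerivedCategory.Q.mapIso ((HomologicalComplex.singleMapHomologicalComplex
      (ModSite.extZero X.sheaf U) (ComplexShape.up ℤ) 0).app (ModSite.unit (X.sheaf.over U))) ≪≫
      ((DerivedCategory.singleFunctorIsoCompQ _ 0).app (ModSite.freeOn X.sheaf U)).symm

end Groth.Agent.DerAdic9
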