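import Groth.Agent.Lib.DerAdic9.Affine
import Groth.Agent.Lib.DerAdic9.HomDC
import Groth.Agent.Lib.ExtFin9.Fin
import Groth.Agent.Lib.DCpl.Ring
import Groth.Agent.Lib.Compl.Complete

/-!
Derived completion is fully faithful on coherent objects over a complete base.
-/

set_option autoImplicit false
set_option linter.unusedSectionVars false
set_option linter.style.haveILetI false
set_option backward.isDefEq.respectTransparency false
set_option backward.isDefEq.respectTransparency.types false

universe w u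

open CategoryTheory CategoryTheory.Limits CategoryTheory.Pretriangulated Opposite AlgebraicGeometry DerComp

attribute [local instance] HasDerivedCategory.standard

namespace Groth.Agent.DerAdic9

section Complete

variable {A : Type u} [CommRing A] [IsNoetherianRing A] (I : Ideal A) [IsAdicComplete I A]

/-- Finite modules over a complete ring are derived complete. -/
theorem dc_of_finite {M : Type w} [AddCommGroup M] [Module A M] [Module.Finite A M] {f : A} (hf : f ∈ I) :
    DCpl.DC M f := by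
  obtain ⟨n, g, hg⟩ := Module.Finite.exists_fin' A M
  haveI := Compl.isAdicComplete_of_finite I ((Fin n → A) ⧸ LinearMap.ker g)
  exact (DCpl.dc_of_isAdicComplete I hf).of_linearEquiv (g.quotKerEquivOfSurjective hg)

end Complete

section Proper

open DerNull9 DerVanish9 ExtFin9

variable {A : Type u} [CommRing A] {X : Scheme.{u}} [X.Over (Spec (CommRingCat.of A))]

theorem scal_add (a b : A) : scal (X := X) A (a + b) = scal A a + scal A b := by
  refine Subtype.ext (funext fun U => ?_)
  show (X.presheaf.map _).hom (Coh.toGlobal _ (a + b)) = _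
  rw [map_add, map_add]
  rfl

theorem scal_mul (a b : A) : scal (X := X) A (a * b) = scal A a * scal A b := by
  refine Subtype.ext (funext fun U => ?_)
  show (X.presheaf.map _).hom (Coh.toGlobal _ (a * b)) = _
  rw [map_mul, map_mul]
  rfl

/-- An object regarded as an object of the derived category of the scheme. -/
abbrev toX (K : DerivedCategory (ModSite.Mod X.sheaf)) : DCoh.D X := K

/-- The two scalar actions agree on maps in the derived category. -/
theorem smul_hom_eq (a : A) {K L : DerivedCategory (ModSite.Mod X.sheaf)} (x : K ⟶ L) :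
    scal (X := X) A a • x = (show K ⟶ L from (a • (show toX K ⟶ toX L from x) :)) := by
  obtain ⟨F, ⟨e⟩⟩ : ∃ F, Nonempty (DerivedCategory.Q.obj F ≅ K) :=
    ⟨_, ⟨DerivedCategory.Q.objObjPreimageIso K⟩⟩
  have h1 : scal (X := X) A a • x =
      e.inv ≫ DerivedCategory.Q.map (scal (X := X) A a • 𝟙 F) ≫ e.hom ≫ x := by
    rw [Functor.map_smul, CategoryTheory.Functor.map_id, Linear.smul_comp, Category.id_comp, Linear.comp_smul,
      e.inv_hom_id_assoc]
  let F' : CochainComplex X.Modules ℤ := F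
  let x' : toX K ⟶ toX L := x
  let e' : DerivedCategory.Q.obj F' ≅ toX K := e
  have h2 : a • x' = e'.inv ≫ DerivedCategory.Q.map (a • 𝟙 F') ≫ e'.hom ≫ x' := by
    rw [Functor.map_smul, CategoryTheory.Functor.map_id, Linear.smul_comp, Category.id_comp, Linear.comp_smul,
      e'.inv_hom_id_assoc]
  rw [ExtFin9.cx_smul_id] at h2
  exact h1.trans h2.symm

theorem dc_scal {K L : DerivedCategory (ModSite.Mod X.sheaf)} (a : A)
    (h : DCpl.DC (toX K ⟶ toX L) a) : DCpl.DC (K ⟶ L) (scal (X := X) A a) := by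
  have he : (DCpl.tele (K ⟶ L) (scal (X := X) A a) : (ℕ → (K ⟶ L)) → (ℕ → (K ⟶ L))) =
      DCpl.tele (toX K ⟶ toX L) a :=
    funext fun x => funext fun i => by
      rw [DCpl.tele_apply, DCpl.tele_apply, smul_hom_eq]
  show Function.Bijective _
  rw [he]
  exact h

variable [IsNoetherianRing A] [IsProper (X ↘ Spec (CommRingCat.of A))] (I : Ideal A) [IsAdicComplete I A]
  (𝓙 : IdealSh X.sheaf) [HasDerCompletion X.sheaf 𝓙]

/-- Completion is bijective on maps between coherent objects. -/
theorem bijective_completion (h1 : ∀ a ∈ I, ∀ U : X.Opens, (scal (X := X) A a).1 U ∈ 𝓙.ideal U)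
    (h2 : ∀ 𝓙' : IdealSh X.sheaf, (∀ a ∈ I, ∀ U : X.Opens, (scal (X := X) A a).1 U ∈ 𝓙'.ideal U) → 𝓙 ≤ 𝓙')
    (F G : DerivedCategory (ModSite.Mod X.sheaf)) (hF : DCoh.IsCohD (X := X) F) (hG : DCoh.IsCohD (X := X) G)
    (a b : ℤ) [hFa : F.IsLE a] [hGb : G.IsGE b] :
    Function.Bijective (fun ψ : F ⟶ G => (derCompletion X.sheaf 𝓙).map ψ) := by
  haveI : IsGrothendieckAbelian.{u} (ModSite.Mod X.sheaf) :=
    CohFound.isGrothendieckAbelian_sheafOfModules (ModSite.ringSh X.sheaf)
  haveI : IsGrothendieckAbelian.{u} (ModSite.Mod (X.sheaf.over (⊤ : X.Opens))) :=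
    CohFound.isGrothendieckAbelian_sheafOfModules (ModSite.ringSh (X.sheaf.over (⊤ : X.Opens)))
  let L := ((derCompletion X.sheaf 𝓙).obj G).obj
  let η : G ⟶ L := toDerCompletion 𝓙 G
  suffices hb : Function.Bijective fun ψ : F ⟶ G => ψ ≫ η by
    have h := ((derCompletionAdj X.sheaf 𝓙).homEquiv F ((derCompletion X.sheaf 𝓙).obj G)).symm.bijective.comp hb
    convert h using 1
    funext ψ
    exact ((derCompletionAdj X.sheaf 𝓙).homEquiv F _).injective (by
      rw [Function.comp_apply, Equiv.apply_symm_apply, Adjunction.homEquiv_unit]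
      exact ((derCompletionAdj X.sheaf 𝓙).unit.naturality ψ).symm)
  obtain ⟨S, hS⟩ := IsNoetherian.noetherian I
  have hSI : ∀ c ∈ S, c ∈ I := fun c hc => hS ▸ Submodule.subset_span hc
  let as := S.toList.map (scal (X := X) A)
  have hmem : ∀ s ∈ as, ∃ c ∈ S, scal (X := X) A c = s := fun s hs => by
    obtain ⟨c, hc, rfl⟩ := List.mem_map.1 hs
    exact ⟨c, Finset.mem_toList.1 hc, rfl⟩
  obtain ⟨I₁, hI₁, ⟨e₁⟩⟩ := exists_kInj G
  obtain ⟨I₂, hI₂, ⟨e₂⟩⟩ := exists_kInj L
  obtain ⟨φ, hφ⟩ := KInjLib.exists_map_eq (e₁.hom ≫ η ≫ e₂.inv)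
  have hX : ∀ Y, IsDerComp X.sheaf 𝓙 Y → Perp Y (DerivedCategory.Q.obj (CochainComplex.mappingCone φ)) := fun Y hY =>
    (bijective_precomp_iff φ Y).1 fun n => by
      have h0 : Function.Bijective fun g : L ⟶ Y⟦n⟧ => η ≫ g := by
        have h := ((derCompletionAdj X.sheaf 𝓙).homEquiv G ⟨Y⟦n⟧, isDerComp_shift hY n⟩).bijective.comp
          (ObjectProperty.fullyFaithfulι _).homEquiv.symm.bijective
        convert h using 1
        funext t
        show _ = (derCompletionAdj X.sheaf 𝓙).homEquiv G ⟨Y⟦n⟧, isDerComp_shift hY n⟩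
          ((ObjectProperty.fullyFaithfulι _).homEquiv.symm t)
        rw [Adjunction.homEquiv_unit]
        rfl
      have hb := ((Iso.homCongr e₁.symm (Iso.refl (Y⟦n⟧))).bijective.comp
        h0).comp (Iso.homCongr e₂ (Iso.refl (Y⟦n⟧))).bijective
      convert hb using 1
      funext g
      simp [hφ]
  have hnull : IsZero (DerivedCategory.Q.obj (kos as (CochainComplex.mappingCone φ))) := by
    refine isZero_kos_of_restr as _ (null_of_leftOrth 𝓙
      (fun W g => ∃ i : Fin as.length, g = (as.get i).1 W) (fun K' hK' => ?_) ?_ _ hX)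
    · refine (isDerComp_iff_le K' 𝓙).2 (h2 _ fun c hc U => ?_)
      rw [← hS] at hc
      induction hc using Submodule.span_induction with
      | mem c hc =>
        obtain ⟨i, hi⟩ := List.mem_iff_get.1 (List.mem_map.2 ⟨c, Finset.mem_toList.2 hc, rfl⟩ :
          scal (X := X) A c ∈ as)
        rw [← hi]
        exact fun V g => hK' V _ ⟨i, GSec.compat _ g⟩
      | zero =>
        have h0 : (scal (X := X) A (0 : A)).1 U = 0 := by
          show (X.presheaf.map _).hom (Coh.toGlobal _ (0 : A)) = _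
          rw [map_zero, map_zero]
        rw [h0]
        exact (vanishingIdeal K').ideal U |>.zero_mem
      | add x y _ _ hx hy => rw [scal_add]; exact (vanishingIdeal K').ideal U |>.add_mem hx hy
      | smul r x _ hx =>
        rw [smul_eq_mul, scal_mul]
        exact (vanishingIdeal K').ideal U |>.mul_mem_left ((scal (X := X) A r).1 U) hx
    · rintro W g ⟨i, rfl⟩ B q y
      have h := locSpan_gen (O := X.sheaf) (a := fun i => (as.get i).1 (⊤ : X.Opens)) y i
      rw [GSec.compat] at h ⊢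
      exact h
  obtain ⟨F₀, ⟨eF⟩⟩ : ∃ F₀, Nonempty (DerivedCategory.Q.obj F₀ ≅ F) :=
    ⟨_, ⟨DerivedCategory.Q.objObjPreimageIso F⟩⟩
  have hN : ∀ s ∈ as, ∀ n : ℤ, DCpl.DC (F ⟶ (DerivedCategory.Q.obj I₂)⟦n⟧) s := fun s hs n => by
    obtain ⟨c, hc, rfl⟩ := hmem s hs
    have hL : IsDerComp X.sheaf 𝓙 (L⟦n⟧) := isDerComp_shift ((derCompletion X.sheaf 𝓙).obj G).property n
    obtain ⟨I₃, hI₃, ⟨e₃⟩⟩ := exists_kInj (L⟦n⟧)
    exact (dc_of_perp _ _ _ (perp_of_smul_iso I₃ e₃ _
      ((isDerComp_iff_le _ 𝓙).1 hL ⊤ (h1 c (hSI c hc) ⊤)) F₀)).of_linearEquiv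
        (Linear.homCongr _ eF (e₃ ≪≫ (shiftFunctor _ n).mapIso e₂.symm))
  have hM : ∀ s ∈ as, ∀ n : ℤ, DCpl.DC (F ⟶ (DerivedCategory.Q.obj I₁)⟦n⟧) s := fun s hs n => by
    obtain ⟨c, hc, rfl⟩ := hmem s hs
    refine DCpl.DC.of_linearEquiv ?_ (Linear.homCongr _ (Iso.refl F) ((shiftFunctor _ n).mapIso e₁.symm))
    refine dc_scal c (show DCpl.DC (toX F ⟶ (toX G)⟦n⟧) c from ?_)
    haveI : (toX G).IsGE b := hGb
    haveI : (toX F).IsLE a := hFa
    haveI : ((toX G)⟦n⟧).IsGE (b - n) :=
      DerivedCategory.TStructure.t.isGE_shift (toX G) b n (b - n) (by omega)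
    haveI : Module.Finite A (toX F ⟶ (toX G)⟦n⟧) :=
      ExtFin9.finite_hom A _ _ hF a (fun i => CohFound.isCoh_of_iso
        (((DerivedCategory.homologyFunctor X.Modules 0).shiftIso n i (n + i) rfl).app (toX G)).symm (hG (n + i))) (b - n)
    exact dc_of_finite I (hSI c hc)
  haveI : ∀ k : ℤ, (shiftFunctor (DerivedCategory (ModSite.Mod X.sheaf)) k).Additive := fun k => inferInstance
  haveI : ∀ k : ℤ, (shiftFunctor (DerivedCategory (ModSite.Mod X.sheaf)) k).Linear (GSec X.sheaf) :=
    fun k => inferInstance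
  let T := DerivedCategory.Q.mapTriangle.obj (CochainComplex.mappingCone.triangle φ)
  have hT : T ∈ distTriang _ := DerivedCategory.mappingCone_triangle_distinguished φ
  have hW := subsingleton_hom_of_kos F as (CochainComplex.mappingCone φ)
    (fun s hs => dc_hom_triangle_shift F T hT s (hM s hs) (hN s hs)) hnull
  suffices hb : Function.Bijective fun ψ : F ⟶ DerivedCategory.Q.obj I₁ => ψ ≫ DerivedCategory.Q.map φ by
    have h := ((Iso.homCongr (Iso.refl F) e₂).bijective.comp hb).comp (Iso.homCongr (Iso.refl F) e₁.symm).bijective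
    convert h using 1
    funext ψ
    simp [hφ]
  refine ⟨fun x y hxy => ?_, fun z => ?_⟩
  · rw [← sub_eq_zero]
    obtain ⟨w, hw⟩ := Triangle.coyoneda_exact₂ _ (inv_rot_of_distTriang _ hT) (x - y)
      (show (x - y) ≫ DerivedCategory.Q.map φ = 0 by
        rw [Preadditive.sub_comp, show x ≫ DerivedCategory.Q.map φ = y ≫ DerivedCategory.Q.map φ from hxy, sub_self])
    rw [hw, @Subsingleton.elim _ (hW (-1)) w 0]
    exact zero_comp
  · haveI : Subsingleton (F ⟶ DerivedCategory.Q.obj (CochainComplex.mappingCone φ)) :=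
      (Iso.homCongr (Iso.refl F) ((shiftFunctorZero _ ℤ).app _)).subsingleton_congr.1 (hW 0)
    obtain ⟨w, hw⟩ := Triangle.coyoneda_exact₂ _ hT z (@Subsingleton.elim _ this _ _)
    exact ⟨w, hw.symm⟩

end Proper

end Groth.Agent.DerAdic9
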